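import Cfsg.Agent.H378.RegE7
import Mathlib
import Cfsg.Agent.H129.CycRow
import Cfsg.Agent.H129.DataE7m
import Cfsg.Agent.H902.Zs_m3
import Cfsg.Agent.S1064
import Cfsg.Agent.FastGrp
import Cfsg.Agent.Prune
set_option linter.all false

section
prune_inst 0x7ff2fff8cfbc8ddfffff7e7ffefdddfc1ad19fffa6dff9437fe0e1ff0bdf138809c5f38d0de010ff0ed6c2b410a87803fb7eefffee6fdc7ffffdfff41ffbee5fe5ffb50d51d080241ffc6ffe9bf17f8a7f3fffffffffffffffffffffffffffbeffffffffffff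

-- part: H137/TC7/NumE7
section
prune_inst 0x400000000000080000000000000000006000000000000000000000000000000000000000000000000000
set_option linter.all false
open scoped Cfsg.Agent.FastGrp

-- part: H137/TC7/Fib
section
/-!
# No character of the root lattice of E7 is fixed up to inversion by elements of types 7 (14) and 9 (18) (helper137)
-/

set_option autoImplicit false
set_option linter.unusedSectionVars false

namespace Cfsg.Agent.H137.TC7

open CoxeterSystem Subgroup Cfsg Cfsg.Lie Cfsg.Lie.ChevalleyDatum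
open Cfsg.Agent.ChevalleyStructure Cfsg.Agent.ChevalleyStructure.Elts Cfsg.Agent.ChevalleyStructure.CoxeterGeom
  Cfsg.Agent.ChevalleyStructure.CoxeterGeomTypes Cfsg.Agent.ChevalleyStructure.NPerm
open Cfsg.Agent.Tits.Roots Cfsg.Agent.Tits.Core Cfsg.Agent.Nodes.Reps Cfsg.Agent.Nodes.BNOf
  Cfsg.Agent.Nodes.RGDChev Cfsg.Agent.Nodes.Bruhat
open Cfsg.Agent.BpExc.RowsUntw Cfsg.Agent.H378.TorDual Cfsg.Agent.H378.TorChar Cfsg.Agent.H378.LatRoot
  Cfsg.Agent.H378.LatCyc Cfsg.Agent.H378.LatCodim Cfsg.Agent.H378.LatPerp Cfsg.Agent.H378.RegE7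
  Cfsg.Agent.H378.ExcAdj Cfsg.Agent.H378.ExcNear
open Polynomial

universe u

/-! ### orbits -/

/-- if all periods are divisible by `m` then so is the number of points -/
theorem dvd_card_of_orb {X : Type*} [Finite X] (π : Equiv.Perm X) {m : ℕ}
    (h : ∀ x, ∀ j : ℕ, (π ^ j) x = x → m ∣ j) : m ∣ Nat.card X := by
  classical
  have : Fintype X := Fintype.ofFinite X
  have e := MulAction.selfEquivSigmaOrbits (↥(Subgroup.zpowers π)) X
  have : Fintype (Quotient (MulAction.orbitRel (↥(Subgroup.zpowers π)) X)) := Fintype.ofFinite _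
  rw [Nat.card_congr e, Nat.card_sigma]
  refine Finset.dvd_sum fun ω _ => ?_
  obtain ⟨x, hx⟩ : ∃ x, x = ω.out := ⟨_, rfl⟩
  rw [← hx]
  have : Fintype (MulAction.orbit (↥(Subgroup.zpowers π)) x) := Fintype.ofFinite _
  have h1 := MulAction.minimalPeriod_eq_card (a := π) (b := x)
  rw [Nat.card_eq_fintype_card, ← h1]
  refine h x _ ?_
  have h2 := Function.isPeriodicPt_minimalPeriod (fun y => π • y) x
  have h3 : ∀ j : ℕ, (fun y => π • y)^[j] x = (π ^ j) x := by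
    intro j
    induction j with
    | zero => rfl
    | succ j ih => rw [Function.iterate_succ', Function.comp_apply, ih, pow_succ', Equiv.Perm.mul_apply]; rfl
  rw [← h3]
  exact h2

section Lat

variable {l : ℕ} {W : Type*} [Group W] [Fintype W] {M : CoxeterMatrix (Fin l)} {cs : CoxeterSystem M W}
  {A : Fin l → Fin l → ℤ} {h : IsCartan M A}

theorem pow_apply_mod {m : ℕ} {w : Module.End ℤ (Fin l → ℤ)} {b : Fin l → ℤ}
    (h : aeval w (cyclotomic m ℤ) b = 0) (j : ℕ) : (w ^ j) b = (w ^ (j % m)) b := by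
  have key : ∀ n : ℕ, (w ^ (m * n)) b = b := by
    intro n
    induction n with
    | zero => rfl
    | succ n ih => rw [Nat.mul_succ, pow_add, Module.End.mul_apply, pow_apply_eq h, ih]
  conv_lhs => rw [← Nat.mod_add_div j m, pow_add, Module.End.mul_apply, key]

/-- no power of `w`, except the trivial ones, fixes a root `a` if `m` does not divide the number of roots orthogonal
to `a` -/
theorem pow_root_ne {w : W} {m : ℕ} (hm : 0 < m) (hl : m.totient + 1 = l) (h2 : 2 ≤ m.totient) {y : Fin l → ℤ}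
    (hy : y ≠ 0) (hy' : aeval (rep cs h w) (cyclotomic m ℤ) y = 0) {a : Fin l → ℤ} (ha : _root_.Cfsg.Agent.Tits.Roots.IsRoot cs h a)
    (hcard : ¬ m ∣ Nat.card (PerpRoots cs h a)) {j : ℕ} (hj : ¬ m ∣ j) : (rep cs h w ^ j) a ≠ a := by
  intro h1
  apply hcard
  obtain ⟨T, hT⟩ : ∃ T, T = rep cs h w := ⟨_, rfl⟩
  have hy0 : (T ^ j) y - y ≠ 0 := by
    rw [sub_ne_zero, hT, pow_apply_mod hy']
    refine pow_apply_ne hm hy hy' ?_ (Nat.mod_lt _ hm)
    rcases Nat.eq_zero_or_pos (j % m) with h3 | h3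
    · exact absurd (Nat.dvd_of_mod_eq_zero h3) hj
    · exact h3
  refine dvd_card_perp (w := w) hm hl h2 hy0 ?_ ha.ne_zero ?_
  · rw [map_sub, hy', sub_zero, hT]
    have e : (rep cs h w ^ j) = aeval (rep cs h w) (X ^ j : ℤ[X]) := by rw [map_pow, aeval_X]
    rw [e, ← Module.End.mul_apply, ← map_mul, mul_comm, map_mul, Module.End.mul_apply, hy', map_zero]
  · intro i
    rw [map_sub, form_sub_right, sub_eq_zero, hT, ← Module.End.mul_apply, ← pow_add, add_comm, pow_add,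
      Module.End.mul_apply]
    conv_lhs => rw [← h1]
    have e : ∀ z, (rep cs h w ^ j) z = rep cs h (w ^ j) z := fun z => by rw [map_pow]
    rw [e, e, form_rep]

end Lat

section E7

variable {W : Type*} [Group W] [Fintype W] (cs : CoxeterSystem CoxeterMatrix.E₇ W)

theorem card_perp_root {a : Fin 7 → ℤ} (ha : _root_.Cfsg.Agent.Tits.Roots.IsRoot cs e7T.isCartan a) :
    Nat.card (PerpRoots cs e7T.isCartan a) = 60 := by
  obtain ⟨v, i, rfl⟩ := ha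
  rw [card_perp_simple, card_perp_E7]

theorem pow_root_ne_E7 {w : W} {m : ℕ} (hm : m = 7 ∨ m = 9 ∨ m = 14 ∨ m = 18) {y : Fin 7 → ℤ}
    (hy : y ≠ 0) (hy' : aeval (rep cs e7T.isCartan w) (cyclotomic m ℤ) y = 0) {a : Fin 7 → ℤ}
    (ha : _root_.Cfsg.Agent.Tits.Roots.IsRoot cs e7T.isCartan a) {j : ℕ} (hj : ¬ m ∣ j) : (rep cs e7T.isCartan w ^ j) a ≠ a := by
  refine pow_root_ne (by omega) ?_ ?_ hy hy' ha ?_ hj
  · rcases hm with rfl | rfl | rfl | rfl <;> decide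
  · rcases hm with rfl | rfl | rfl | rfl <;> decide
  · rw [card_perp_root cs ha]
    rcases hm with rfl | rfl | rfl | rfl <;> omega

/-- the roots of `E7` -/
theorem card_roots_E7 : Nat.card {a : Fin 7 → ℤ // _root_.Cfsg.Agent.Tits.Roots.IsRoot cs e7T.isCartan a} = 126 := by
  have e : Fin chevE7.nroots ≃ {a : Fin 7 → ℤ // _root_.Cfsg.Agent.Tits.Roots.IsRoot cs e7T.isCartan a} := by
    refine Equiv.ofBijective (fun r => ⟨vec chevE7 7 r, isRoot_vec e7T cs r.2⟩) ⟨?_, ?_⟩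
    · intro r s hrs
      exact Fin.ext (vec_inj e7T r.2 s.2 (congrArg Subtype.val hrs))
    · rintro ⟨b, hb⟩
      obtain ⟨r, hr, rfl⟩ := (isRoot_iff e7T cs b).1 hb
      exact ⟨⟨r, hr⟩, rfl⟩
  rw [← Nat.card_congr e, Nat.card_eq_fintype_card, Fintype.card_fin]
  rfl

theorem sum_roots : ∃ r s t : ℕ, r < chevE7.nroots ∧ s < chevE7.nroots ∧ t < chevE7.nroots ∧
    vec chevE7 7 r = sr 0 + sr 2 ∧ vec chevE7 7 s = sr 2 + sr 3 ∧ vec chevE7 7 t = sr 0 + sr 2 + sr 3 := by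
  have h1 : ∃ r : Fin chevE7.nroots, vec chevE7 7 r = sr 0 + sr 2 := by decide +kernel
  have h2 : ∃ r : Fin chevE7.nroots, vec chevE7 7 r = sr 2 + sr 3 := by decide +kernel
  have h3 : ∃ r : Fin chevE7.nroots, vec chevE7 7 r = sr 0 + sr 2 + sr 3 := by decide +kernel
  obtain ⟨r, hr⟩ := h1
  obtain ⟨s, hs⟩ := h2
  obtain ⟨t, ht⟩ := h3
  exact ⟨r, s, t, r.2, s.2, t.2, hr, hs, ht⟩

variable {k : Type u} [Field k]

/-- **No common character.** -/
theorem no_common {χ : Ch 7 k} (hχ : χ ≠ 1) {ε : ℤ} (hε : ε * ε = 1) {w w' : W}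
    (hw : ∀ x, χ (Multiplicative.ofAdd (rep cs e7T.isCartan w x)) = χ (Multiplicative.ofAdd x) ^ ε)
    (hw' : ∀ x, χ (Multiplicative.ofAdd (rep cs e7T.isCartan w' x)) = χ (Multiplicative.ofAdd x) ^ ε)
    {m m' : ℕ} (hm : m = 7 ∨ m = 14) (hm' : m' = 9 ∨ m' = 18) {y y' : Fin 7 → ℤ} (hy : y ≠ 0) (hy' : y' ≠ 0)
    (hya : aeval (rep cs e7T.isCartan w) (cyclotomic m ℤ) y = 0)
    (hya' : aeval (rep cs e7T.isCartan w') (cyclotomic m' ℤ) y' = 0) : False := by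
  -- the sets `S λ`
  have hfin : Finite {a : Fin 7 → ℤ // _root_.Cfsg.Agent.Tits.Roots.IsRoot cs e7T.isCartan a} := by
    refine Nat.finite_of_card_ne_zero ?_
    rw [card_roots_E7]; norm_num
  let S : kˣ → Type := fun lam => {a : Fin 7 → ℤ // _root_.Cfsg.Agent.Tits.Roots.IsRoot cs e7T.isCartan a ∧
    (χ (Multiplicative.ofAdd a) = lam ∨ χ (Multiplicative.ofAdd a) = lam⁻¹)}
  have hSfin : ∀ lam, Finite (S lam) := fun lam =>
    Finite.of_injective (fun a : S lam => (⟨a.1, a.2.1⟩ : {a : Fin 7 → ℤ // _root_.Cfsg.Agent.Tits.Roots.IsRoot cs e7T.isCartan a}))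
      fun a b hab => by
        have h1 : a.1 = b.1 := congrArg (fun z : {a : Fin 7 → ℤ // _root_.Cfsg.Agent.Tits.Roots.IsRoot cs e7T.isCartan a} => z.1) hab
        exact Subtype.ext h1
  -- the action of the squares
  have hsq : ∀ v : W, (∀ x, χ (Multiplicative.ofAdd (rep cs e7T.isCartan v x)) = χ (Multiplicative.ofAdd x) ^ ε) →
      ∀ x, χ (Multiplicative.ofAdd (rep cs e7T.isCartan (v ^ 2) x)) = χ (Multiplicative.ofAdd x) := by
    intro v hv x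
    rw [pow_two, rep_mul_apply, hv, hv, ← zpow_mul, hε, zpow_one]
  have hact : ∀ (v : W), (∀ x, χ (Multiplicative.ofAdd (rep cs e7T.isCartan v x)) = χ (Multiplicative.ofAdd x)) →
      ∀ (n : ℕ), (∀ a, _root_.Cfsg.Agent.Tits.Roots.IsRoot cs e7T.isCartan a → ∀ j : ℕ, (rep cs e7T.isCartan v ^ j) a = a → n ∣ j) →
      ∀ lam, n ∣ Nat.card (S lam) := by
    intro v hv n hn lam
    have := hSfin lam
    have hvi : ∀ x, χ (Multiplicative.ofAdd (rep cs e7T.isCartan v⁻¹ x)) = χ (Multiplicative.ofAdd x) := by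
      intro x
      rw [← hv, rep_apply_inv]
    let π : Equiv.Perm (S lam) :=
      { toFun := fun a => ⟨rep cs e7T.isCartan v a.1, a.2.1.act v, by rw [hv]; exact a.2.2⟩
        invFun := fun a => ⟨rep cs e7T.isCartan v⁻¹ a.1, a.2.1.act v⁻¹, by rw [hvi]; exact a.2.2⟩
        left_inv := fun a => Subtype.ext (rep_inv_apply cs e7T.isCartan v a.1)
        right_inv := fun a => Subtype.ext (rep_apply_inv cs e7T.isCartan v a.1) }
    have hπ : ∀ (i : ℕ) (b : S lam), ((π ^ i) b).1 = (rep cs e7T.isCartan v ^ i) b.1 := by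
      intro i
      induction i with
      | zero => intro b; rfl
      | succ i ih =>
        intro b
        rw [pow_succ, Equiv.Perm.mul_apply, ih, pow_succ, Module.End.mul_apply]
        rfl
    refine dvd_card_of_orb π fun a j hj => hn a.1 a.2.1 j ?_
    rw [← hπ, hj]
  have h7 : ∀ lam, 7 ∣ Nat.card (S lam) := by
    refine hact (w ^ 2) (hsq w hw) 7 fun a ha j hj => ?_
    rw [map_pow, ← pow_mul] at hj
    by_contra h7
    refine pow_root_ne_E7 cs (by (clear * - hm; itauto)) hy hya ha (j := 2 * j) ?_ hj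
    rcases hm with rfl | rfl <;> omega
  have h9 : ∀ lam, 9 ∣ Nat.card (S lam) := by
    refine hact (w' ^ 2) (hsq w' hw') 9 fun a ha j hj => ?_
    rw [map_pow, ← pow_mul] at hj
    by_contra h9
    refine pow_root_ne_E7 cs (by (clear * - hm'; itauto)) hy' hya' ha (j := 2 * j) ?_ hj
    rcases hm' with rfl | rfl <;> omega
  have hneg : ∀ x, χ (Multiplicative.ofAdd (-x)) = (χ (Multiplicative.ofAdd x))⁻¹ := fun x => by
    rw [ofAdd_neg, map_inv]
  have h2 : ∀ lam, 2 ∣ Nat.card (S lam) := by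
    intro lam
    have := hSfin lam
    have hm2 : ∀ a : S lam, _root_.Cfsg.Agent.Tits.Roots.IsRoot cs e7T.isCartan (-a.1) ∧ (χ (Multiplicative.ofAdd (-a.1)) = lam ∨
        χ (Multiplicative.ofAdd (-a.1)) = lam⁻¹) := by
      intro a
      refine ⟨a.2.1.neg, ?_⟩
      rw [hneg]
      rcases a.2.2 with h | h
      · right; rw [h]
      · left; rw [h, inv_inv]
    let π : Equiv.Perm (S lam) :=
      { toFun := fun a => ⟨-a.1, hm2 a⟩
        invFun := fun a => ⟨-a.1, hm2 a⟩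
        left_inv := fun a => Subtype.ext (neg_neg a.1)
        right_inv := fun a => Subtype.ext (neg_neg a.1) }
    have hπ2 : π ^ 2 = 1 := Equiv.Perm.ext fun a => Subtype.ext (neg_neg a.1)
    refine dvd_card_of_orb π fun a j hj => ?_
    by_contra hodd
    obtain ⟨i, rfl⟩ : ∃ i, j = 2 * i + 1 := ⟨j / 2, by omega⟩
    rw [pow_succ, pow_mul, hπ2, one_pow, one_mul] at hj
    have h3 : -a.1 = a.1 := congrArg Subtype.val hj
    have h4 : a.1 = 0 := by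
      funext i
      have := congrFun h3 i
      rw [Pi.neg_apply] at this
      rw [Pi.zero_apply]; omega
    exact a.2.1.ne_zero h4
  have hall : ∀ a, _root_.Cfsg.Agent.Tits.Roots.IsRoot cs e7T.isCartan a → ∀ b, _root_.Cfsg.Agent.Tits.Roots.IsRoot cs e7T.isCartan b →
      (χ (Multiplicative.ofAdd b) = χ (Multiplicative.ofAdd a) ∨
        χ (Multiplicative.ofAdd b) = (χ (Multiplicative.ofAdd a))⁻¹) := by
    intro a ha b hb
    by_contra hcon
    obtain ⟨lam, hlam⟩ : ∃ lam, lam = χ (Multiplicative.ofAdd a) := ⟨_, rfl⟩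
    have := hSfin lam
    have hne : Nat.card (S lam) ≠ 0 := by
      have : Nonempty (S lam) := ⟨⟨a, ha, Or.inl hlam.symm⟩⟩
      exact Nat.card_pos.ne'
    have h126 : 126 ∣ Nat.card (S lam) := by
      have h3 := h2 lam
      have h4 := h7 lam
      have h5 := h9 lam
      (clear * - h3 h4 h5; solve | lia | omega)
    have hle := Nat.le_of_dvd (Nat.pos_of_ne_zero hne) h126
    let ι : S lam → {a : Fin 7 → ℤ // _root_.Cfsg.Agent.Tits.Roots.IsRoot cs e7T.isCartan a} := fun a => ⟨a.1, a.2.1⟩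
    have hι : Function.Injective ι := fun a b hab => by
      have h1 : a.1 = b.1 := congrArg (fun z : {a : Fin 7 → ℤ // _root_.Cfsg.Agent.Tits.Roots.IsRoot cs e7T.isCartan a} => z.1) hab
      exact Subtype.ext h1
    have hbij : Function.Bijective ι := by
      refine hι.bijective_of_nat_card_le ?_
      rw [card_roots_E7]; exact hle
    obtain ⟨c, hc⟩ := hbij.2 ⟨b, hb⟩
    have h3 : c.1 = b := congrArg Subtype.val hc
    apply hcon
    rw [← hlam, ← h3]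
    exact c.2.2
  obtain ⟨r, s, t, hr, hs, ht, er, es, et⟩ := sum_roots
  have r0 := isRoot_sr cs e7T.isCartan 0
  have r2 := isRoot_sr cs e7T.isCartan 2
  have r3 := isRoot_sr cs e7T.isCartan 3
  have r02 : _root_.Cfsg.Agent.Tits.Roots.IsRoot cs e7T.isCartan (sr 0 + sr 2) := er ▸ isRoot_vec e7T cs hr
  have r23 : _root_.Cfsg.Agent.Tits.Roots.IsRoot cs e7T.isCartan (sr 2 + sr 3) := es ▸ isRoot_vec e7T cs hs
  have r023 : _root_.Cfsg.Agent.Tits.Roots.IsRoot cs e7T.isCartan (sr 0 + sr 2 + sr 3) := et ▸ isRoot_vec e7T cs ht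
  have hne1 : χ (Multiplicative.ofAdd (sr 0)) ≠ 1 := by
    intro h1
    apply hχ
    refine ext_sr fun i => ?_
    rw [MonoidHom.one_apply]
    rcases hall _ r0 _ (isRoot_sr cs e7T.isCartan i) with h3 | h3
    · rw [h3, h1]
    · rw [h3, h1, inv_one]
  have a2 := hall _ r0 _ r2
  have a3 := hall _ r0 _ r3
  have a02 := hall _ r0 _ r02
  have a23 := hall _ r0 _ r23
  have a023 := hall _ r0 _ r023
  rw [ofAdd_add, map_mul] at a02 a23 a023
  rw [ofAdd_add, map_mul] at a023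
  obtain ⟨u, hu⟩ : ∃ u, u = χ (Multiplicative.ofAdd (sr 0)) := ⟨_, rfl⟩
  obtain ⟨v, hv⟩ : ∃ v, v = χ (Multiplicative.ofAdd (sr 2)) := ⟨_, rfl⟩
  obtain ⟨x, hx⟩ : ∃ x, x = χ (Multiplicative.ofAdd (sr 3)) := ⟨_, rfl⟩
  rw [← hu] at hne1 a2 a3 a02 a23 a023
  rw [← hv] at a2 a02 a23 a023
  rw [← hx] at a3 a23 a023
  have hone : ∀ z : kˣ, z = 1 → ¬ (z = u ∨ z = u⁻¹) := by
    rintro z rfl (h | h)
    · exact hne1 h.symm
    · exact hne1 (by rw [← inv_inv u, ← h, inv_one])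
  have e2 : v = u := by
    rcases a2 with h | h
    · exact h
    · exact absurd a02 (hone _ (by rw [h, mul_inv_cancel]))
  have e3 : x = u := by
    rcases a3 with h | h
    · exact h
    · exact absurd a23 (hone _ (by rw [e2, h, mul_inv_cancel]))
  rw [e2, e3] at a023
  rw [e2] at a02
  have hu3 : u * u * u = 1 := by
    rcases a02 with h | h
    · exact absurd (mul_left_cancel (h.trans (mul_one u).symm)) hne1
    · rw [h, inv_mul_cancel]
  exact hone _ hu3 a023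

end E7

end Cfsg.Agent.H137.TC7
end

-- part: H137/TC7/Base
section
/-!
# Four types of class sizes (E7(q), q ≥ 4), for S3582 (helper137)

`M = |L|`, `L = E7(q)`, `p ∣ q`; for `i = 0, 1, 2, 3` (tori `Φ₇, Φ₉, Φ₁₄, Φ₁₈`) `m i` is the product of the full
`r`-parts of `M` over the primes `r` modulo which `q` has order `7, 9, 14, 18`, and `t i` the order of the torus.
`Types G p M m t` is a statement on the class sizes of `G` only; it holds for `L`, hence for every `G` with `Z(G) = 1`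
and the class sizes of `L`.
-/

set_option autoImplicit false

namespace Cfsg.Agent.H137.TC7

open Subgroup

universe u v

/-- the class size -/
noncomputable abbrev cs {G : Type*} [Group G] (g : G) : ℕ := (centralizer ({g} : Set G)).index

/-- The numbers. -/
structure Nums (p M : ℕ) (m t : Fin 4 → ℕ) : Prop where
  prime : p.Prime
  pos : 0 < M
  one_lt : ∀ i, 1 < m i
  coprime : ∀ i j, i ≠ j → (m i).Coprime (m j)
  coprime_p : ∀ i, (m i).Coprime p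
  dvd_t : ∀ i, m i ∣ t i
  t_dvd : ∀ i, t i ∣ M
  /-- `m i` contains the full part of `M` for its primes -/
  full : ∀ i, (m i).Coprime (M / m i)
  /-- `gcd(|T₇|, |T₁₄|) = 1` -/
  t_coprime : (t 0).Coprime (t 2)
  /-- the `r`-parts, `r ≠ p`, are smaller than the product of three of the `m i` -/
  big3 : ∀ r : ℕ, r.Prime → r ≠ p → ∀ i, 2 * ordProj[r] M * m i < m 0 * m 1 * m 2 * m 3
  big2 : ∀ i j, i ≠ j → 200 * Nat.log 2 M < m i * m j

/-- The class sizes. -/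
structure Types (G : Type*) [Group G] (p M : ℕ) (m t : Fin 4 → ℕ) : Prop extends Nums p M m t where
  dvd : ∀ g : G, cs g ∣ M
  typ : ∀ g : G, g ≠ 1 → ∀ i, m i ∣ cs g ∨ (m i).Coprime (cs g)
  one_type : ∀ g : G, g ≠ 1 → ∀ i j, (m i).Coprime (cs g) → (m j).Coprime (cs g) → i = j
  tor : ∀ g : G, g ≠ 1 → ∀ i, (m i).Coprime (cs g) → cs g * t i ∣ M
  ex : ∀ i, ∃ g : G, g ≠ 1 ∧ cs g * t i = M

variable {p M : ℕ} {m t : Fin 4 → ℕ}

theorem cs_eq_one_iff {G : Type*} [Group G] (hZ : center G = ⊥) {g : G} : cs g = 1 ↔ g = 1 := by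
  constructor
  · intro h
    rw [index_eq_one] at h
    have h4 : g ∈ center G := by
      rw [mem_center_iff]
      intro x
      have : x ∈ centralizer ({g} : Set G) := h ▸ mem_top x
      exact mem_centralizer_singleton_iff.1 this
    rwa [hZ, mem_bot] at h4
  · rintro rfl
    rw [cs, index_eq_one, eq_top_iff]
    intro x _
    rw [mem_centralizer_singleton_iff]
    simp

/-- **Transfer**: the types depend only on the set of class sizes. -/
theorem Types.transfer {L : Type u} [Group L] {G : Type v} [Group G] (hL : Types L p M m t) (hZL : center L = ⊥)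
    (hZ : center G = ⊥) (h : Set.range (fun g : G => (centralizer ({g} : Set G)).index) =
      Set.range (fun g : L => (centralizer ({g} : Set L)).index)) : Types G p M m t := by
  have key : ∀ g : G, g ≠ 1 → ∃ l : L, l ≠ 1 ∧ cs l = cs g := by
    intro g hg
    have h1 : cs g ∈ Set.range (fun g : L => (centralizer ({g} : Set L)).index) := by
      rw [← h]; exact ⟨g, rfl⟩
    obtain ⟨l, hl⟩ := h1
    refine ⟨l, ?_, hl⟩
    rintro rfl
    exact hg ((cs_eq_one_iff hZ).1 (by rw [← hl]; exact (cs_eq_one_iff hZL).2 rfl))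
  refine { hL.toNums with dvd := ?_, typ := ?_, one_type := ?_, tor := ?_, ex := ?_ }
  · intro g
    by_cases hg : g = 1
    · rw [(cs_eq_one_iff hZ).2 hg]; exact one_dvd _
    · obtain ⟨l, -, hl⟩ := key g hg
      rw [← hl]; exact hL.dvd l
  · intro g hg i
    obtain ⟨l, hl1, hl⟩ := key g hg
    rw [← hl]; exact hL.typ l hl1 i
  · intro g hg i j
    obtain ⟨l, hl1, hl⟩ := key g hg
    rw [← hl]; exact hL.one_type l hl1 i j
  · intro g hg i
    obtain ⟨l, hl1, hl⟩ := key g hg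
    rw [← hl]; exact hL.tor l hl1 i
  · intro i
    obtain ⟨l, hl1, hl⟩ := hL.ex i
    have h1 : cs l ∈ Set.range (fun g : G => (centralizer ({g} : Set G)).index) := by
      rw [h]; exact ⟨l, rfl⟩
    obtain ⟨g, hg⟩ := h1
    have hg' : cs g = cs l := hg
    refine ⟨g, ?_, by rw [hg', hl]⟩
    rintro rfl
    exact hl1 ((cs_eq_one_iff hZL).1 (by rw [← hg']; exact (cs_eq_one_iff hZ).2 rfl))

end Cfsg.Agent.H137.TC7
end

-- part: H137/TC7/Tor
section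
/-!
# The four cyclic tori of E7(q) (helper137)

`N i = q⁷ - 1, (q - 1)(q⁶ + q³ + 1), q⁷ + 1, (q + 1)(q⁶ - q³ + 1)`, `t i = N i / (2, q - 1)`, and `q` of order
`7, 9, 14, 18` modulo `r`: the centralisers of the elements of order `r` are conjugate to a cyclic group of order `t i`.
-/

set_option autoImplicit false
set_option linter.unusedSectionVars false

namespace Cfsg.Agent.H137.TC7

open CoxeterSystem Cfsg Cfsg.Lie Cfsg.Lie.ChevalleyDatum
open Cfsg.Agent.ChevalleyStructure Cfsg.Agent.ChevalleyStructure.Elts Cfsg.Agent.ChevalleyStructure.CoxeterGeom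
  Cfsg.Agent.ChevalleyStructure.CoxeterGeomTypes Cfsg.Agent.ChevalleyStructure.NPerm
open Cfsg.Agent.Tits.Roots Cfsg.Agent.Tits.Core Cfsg.Agent.Nodes Cfsg.Agent.Nodes.Reps Cfsg.Agent.Nodes.BNOf
  Cfsg.Agent.Nodes.RGDChev Cfsg.Agent.Nodes.Bruhat
open Cfsg.Agent.H129 Cfsg.Agent.H129.TorusChar Cfsg.Agent.H129.TorusTw Cfsg.Agent.H129.WData Cfsg.Agent.H129.TorAct
  Cfsg.Agent.H129.RealT Cfsg.Agent.H129.CycT Cfsg.Agent.H378.ExcNear Cfsg.Agent.H378.RegFin Cfsg.Agent.H378.ExcAdj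
  Cfsg.Agent.H378

universe u

/-- the orders of `q` modulo the primes -/
def ov : Fin 4 → ℕ := ![7, 9, 14, 18]

/-- the determinants -/
def Nv (q : ℕ) : Fin 4 → ℕ := ![q ^ 7 - 1, (q - 1) * (q ^ 6 + q ^ 3 + 1), q ^ 7 + 1, (q + 1) * (q ^ 6 - q ^ 3 + 1)]

/-- the values of the cyclotomic polynomials -/
def Ph (q : ℕ) : Fin 4 → ℤ := ![1 + (q : ℤ) + (q : ℤ) ^ 2 + (q : ℤ) ^ 3 + (q : ℤ) ^ 4 + (q : ℤ) ^ 5 + (q : ℤ) ^ 6,
  1 + (q : ℤ) ^ 3 + (q : ℤ) ^ 6,
  1 - (q : ℤ) + (q : ℤ) ^ 2 - (q : ℤ) ^ 3 + (q : ℤ) ^ 4 - (q : ℤ) ^ 5 + (q : ℤ) ^ 6,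
  1 - (q : ℤ) ^ 3 + (q : ℤ) ^ 6]

/-- the orders of the tori -/
def tv (q : ℕ) (i : Fin 4) : ℕ := Nv q i / Nat.gcd 2 (q - 1)

theorem dvd_Ph {q r : ℕ} (hr : r.Prime) {i : Fin 4} (h : od q r = ov i) : (r : ℤ) ∣ Ph q i := by
  fin_cases i
  · have h1 := CycTab.dvd7 hr (q := q) h
    rw [CycTab.pv7] at h1
    show (r : ℤ) ∣ 1 + (q : ℤ) + (q : ℤ) ^ 2 + (q : ℤ) ^ 3 + (q : ℤ) ^ 4 + (q : ℤ) ^ 5 + (q : ℤ) ^ 6
    have e : 1 + (q : ℤ) + (q : ℤ) ^ 2 + (q : ℤ) ^ 3 + (q : ℤ) ^ 4 + (q : ℤ) ^ 5 + (q : ℤ) ^ 6 =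
      (q : ℤ) ^ 6 + q ^ 5 + q ^ 4 + q ^ 3 + q ^ 2 + q + 1 := by ring
    rw [e]; exact h1
  · have h1 := CycTab.dvd9 hr (q := q) h
    rw [CycTab.pv9] at h1
    show (r : ℤ) ∣ 1 + (q : ℤ) ^ 3 + (q : ℤ) ^ 6
    have e : 1 + (q : ℤ) ^ 3 + (q : ℤ) ^ 6 = (q : ℤ) ^ 6 + q ^ 3 + 1 := by ring
    rw [e]; exact h1
  · have h1 := CycTab.dvd14 hr (q := q) h
    rw [CycTab.pv14] at h1
    show (r : ℤ) ∣ 1 - (q : ℤ) + (q : ℤ) ^ 2 - (q : ℤ) ^ 3 + (q : ℤ) ^ 4 - (q : ℤ) ^ 5 + (q : ℤ) ^ 6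
    have e : 1 - (q : ℤ) + (q : ℤ) ^ 2 - (q : ℤ) ^ 3 + (q : ℤ) ^ 4 - (q : ℤ) ^ 5 + (q : ℤ) ^ 6 =
      (q : ℤ) ^ 6 - q ^ 5 + q ^ 4 - q ^ 3 + q ^ 2 - q + 1 := by ring
    rw [e]; exact h1
  · have h1 := CycTab.dvd18 hr (q := q) h
    rw [CycTab.pv18] at h1
    show (r : ℤ) ∣ 1 - (q : ℤ) ^ 3 + (q : ℤ) ^ 6
    have e : 1 - (q : ℤ) ^ 3 + (q : ℤ) ^ 6 = (q : ℤ) ^ 6 - q ^ 3 + 1 := by ring
    rw [e]; exact h1

theorem Nv_cast {q : ℕ} (hq : 1 ≤ q) (i : Fin 4) : (Nv q i : ℤ) =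
    (![(q : ℤ) - 1, (q : ℤ) - 1, (q : ℤ) + 1, (q : ℤ) + 1] : Fin 4 → ℤ) i * Ph q i := by
  have h0 : q ^ 3 ≤ q ^ 6 := Nat.pow_le_pow_right hq (by norm_num)
  have h1 : 1 ≤ q ^ 7 := Nat.one_le_pow _ _ hq
  fin_cases i
  · show ((q ^ 7 - 1 : ℕ) : ℤ) = ((q : ℤ) - 1) *
      (1 + (q : ℤ) + (q : ℤ) ^ 2 + (q : ℤ) ^ 3 + (q : ℤ) ^ 4 + (q : ℤ) ^ 5 + (q : ℤ) ^ 6)
    push_cast [Nat.cast_sub h1]; ring
  · show (((q - 1) * (q ^ 6 + q ^ 3 + 1) : ℕ) : ℤ) = ((q : ℤ) - 1) * (1 + (q : ℤ) ^ 3 + (q : ℤ) ^ 6)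
    push_cast [Nat.cast_sub hq]; ring
  · show ((q ^ 7 + 1 : ℕ) : ℤ) = ((q : ℤ) + 1) *
      (1 - (q : ℤ) + (q : ℤ) ^ 2 - (q : ℤ) ^ 3 + (q : ℤ) ^ 4 - (q : ℤ) ^ 5 + (q : ℤ) ^ 6)
    push_cast; ring
  · show (((q + 1) * (q ^ 6 - q ^ 3 + 1) : ℕ) : ℤ) = ((q : ℤ) + 1) * (1 - (q : ℤ) ^ 3 + (q : ℤ) ^ 6)
    push_cast [Nat.cast_sub h0]; ring

theorem r_dvd_Nv {q r : ℕ} (hq : 1 ≤ q) (hr : r.Prime) {i : Fin 4} (h : od q r = ov i) : r ∣ Nv q i := by
  have h1 := dvd_Ph hr h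
  have h2 : (r : ℤ) ∣ (Nv q i : ℤ) := by rw [Nv_cast hq]; exact h1.mul_left _
  exact Int.natCast_dvd_natCast.1 h2

/-- the primes are large -/
theorem r_ge {q r : ℕ} (hr : r.Prime) {i : Fin 4} (h : od q r = ov i) : 19 ≤ r := by
  have h7 : ov i = 7 ∨ ov i = 9 ∨ ov i = 14 ∨ ov i = 18 := by
    fin_cases i <;> simp [ov]
  have h0 : 0 < ov i := by omega
  have h1 := mod_of_od hr h h0
  have h2 := hr.two_le
  have h3 : r % 2 = 1 := by
    rcases hr.eq_two_or_odd with h3 | h3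
    · subst h3
      rcases h7 with h7 | h7 | h7 | h7 <;> rw [h7] at h1 <;> revert h1 <;> decide
    · exact h3
  by_contra hlt
  push Not at hlt
  rcases h7 with h7 | h7 | h7 | h7 <;> rw [h7] at h1
  all_goals
    interval_cases r <;> first
      | (clear * - h1 h3; omega)
      | (exact absurd hr (by norm_num))

theorem not_dvd_W {q r : ℕ} (hr : r.Prime) {i : Fin 4} (h : od q r = ov i) :
    ¬ r ∣ Nat.card CoxeterMatrix.E₇.Group := by
  have := r_ge hr h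
  exact not_dvd_W7 hr (by omega) (by omega) (by omega) (by omega)

variable {F : Type u} [Field F] [Fintype F] {q : ℕ}

/-- a torus from the data -/
theorem exists_torus (hq : Fintype.card F = q) {A : Mat 7} (hA : ∀ i j, A i j = cartanOf chevE7 7 i j)
    {L : List (Fin 7 × Mat 7)} (hL : ChainOK A L)
    {V B : Mat 7} {c : Fin 7 → ℤ} (hcyc : CycOK 7 (hd L) V B c) {m : ℕ} {R : Fin m → Fin 7 → ℤ} {prv dep : ℕ → ℕ}
    (hR : RootOK chevE7 7 (hd L) R prv dep) {N : ℕ} (hfN : fN c (q : ℤ) = N) (hqN : q.Coprime N) {o : ℕ}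
    (hgood : ∀ r : ℕ, r.Prime → od q r = o → ¬ r ∣ Nat.card CoxeterMatrix.E₇.Group ∧
      ∀ s, ¬ (r : ℤ) ∣ Gq B (q : ℤ) (R s)) :
    ∃ T : Subgroup ↥(chevE7.group F), IsCyclic ↥T ∧ Nat.card ↥T = N / Nat.gcd 2 (q - 1) ∧
      ∀ r : ℕ, r.Prime → od q r = o → ∀ y ∈ T, orderOf y = r → Subgroup.centralizer {y} ≤ T := by
  have := finite_W7
  have hq2 : 2 ≤ q := by rw [← hq]; exact Fintype.one_lt_card
  rcases Nat.even_or_odd q with he | ho
  · obtain ⟨T, h1, h2, h3, h4, -⟩ := UntwT.untw_T typeE7 CoxeterMatrix.E₇.toCoxeterSystem (by norm_num) hq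
      TorusChar.invC_E7 (by norm_num) hA hL hcyc hR hfN hqN (d := 1) (Or.inr ⟨rfl, sq_surj hq he⟩)
    have hg : Nat.gcd 2 (q - 1) = 1 := by
      rw [← Nat.coprime_iff_gcd_eq_one, Nat.coprime_two_left]
      obtain ⟨m, hm⟩ := he
      exact ⟨m - 1, by omega⟩
    refine ⟨T, h1, ?_, fun r hr ho y hy hyr => h4 r hr (hgood r hr ho).1 (hgood r hr ho).2 y hy hyr⟩
    rw [hg, Nat.div_one]
    rw [one_mul] at h3
    exact Nat.dvd_antisymm h2 h3
  · obtain ⟨T, h1, h2, h3, -⟩ := HalfT.half_E7 hq ho typeE7 hA hL hcyc hR hfN hqN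
    have hg : Nat.gcd 2 (q - 1) = 2 := by
      rw [Nat.gcd_eq_left]
      obtain ⟨m, hm⟩ := ho
      exact ⟨m, by omega⟩
    refine ⟨T, h1, ?_, fun r hr ho y hy hyr => h3 r hr (hgood r hr ho).1 (hgood r hr ho).2 y hy hyr⟩
    rw [hg, ← h2, Nat.mul_div_cancel_left _ (by norm_num)]

/-- **The four tori.** -/
theorem exists_T (hq : Fintype.card F = q) (i : Fin 4) :
    ∃ T : Subgroup ↥(chevE7.group F), IsCyclic ↥T ∧ Nat.card ↥T = tv q i ∧
      ∀ r : ℕ, r.Prime → od q r = ov i → ∀ y ∈ T, orderOf y = r → Subgroup.centralizer {y} ≤ T := by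
  have hq2 : 2 ≤ q := by rw [← hq]; exact Fintype.one_lt_card
  have hne : ∀ {r s : ℕ}, r.Prime → s.Prime → s < 19 → od q r = ov i → ¬ (r : ℤ) ∣ (s : ℤ) := by
    intro r s hr hs hs19 ho hd
    have h1 := r_ge hr ho
    have h2 := (Nat.prime_dvd_prime_iff_eq hr hs).1 (Int.natCast_dvd_natCast.1 hd)
    omega
  have hone : ∀ {r : ℕ}, r.Prime → ¬ (r : ℤ) ∣ 1 := fun hr hd => not_one hr hd
  fin_cases i
  · have e : fN DataE7s.c (q : ℤ) = (Nv q 0 : ℕ) := by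
      rw [DataE7s.fN_eq, Nv_cast (show 1 ≤ q by omega) 0]
      show _ = ((q : ℤ) - 1) * (1 + (q : ℤ) + (q : ℤ) ^ 2 + (q : ℤ) ^ 3 + (q : ℤ) ^ 4 + (q : ℤ) ^ 5 + (q : ℤ) ^ 6)
      ring
    refine exists_torus hq DataE7s.hA DataE7s.chainOK DataE7s.cycOK DataE7s.rootOK e
      (coprime_of_neg (a := (q : ℤ) ^ 6) (by rw [← e, DataE7s.fN_eq]; ring)) (o := 7) fun r hr ho =>
        ⟨not_dvd_W hr (i := 0) ho, fun s hs => ?_⟩
    rcases DataE7s.dvd_of_G (dvd_Ph hr (i := 0) ho) s hs with h | h | h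
    · exact hone hr h
    · exact hne hr Nat.prime_two (by norm_num) ho (by exact_mod_cast h)
    · exact hne hr (by norm_num : (7 : ℕ).Prime) (by norm_num) ho (by exact_mod_cast h)
  · have e : fN DataE7n.c (q : ℤ) = (Nv q 1 : ℕ) := by
      rw [DataE7n.fN_eq, Nv_cast (show 1 ≤ q by omega) 1]
      show _ = ((q : ℤ) - 1) * (1 + (q : ℤ) ^ 3 + (q : ℤ) ^ 6)
      ring
    refine exists_torus hq DataE7n.hA DataE7n.chainOK DataE7n.cycOK DataE7n.rootOK e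
      (coprime_of_neg (a := 1 - (q : ℤ) ^ 2 + (q : ℤ) ^ 3 - (q : ℤ) ^ 5 + (q : ℤ) ^ 6)
        (by rw [← e, DataE7n.fN_eq]; ring)) (o := 9) fun r hr ho =>
        ⟨not_dvd_W hr (i := 1) ho, fun s hs => ?_⟩
    rcases DataE7n.dvd_of_G (dvd_Ph hr (i := 1) ho) s hs with h | h
    · exact hone hr h
    · exact hne hr Nat.prime_three (by norm_num) ho (by exact_mod_cast h)
  · have e : fN DataE7m.c (q : ℤ) = (Nv q 2 : ℕ) := by
      rw [DataE7m.fN_eq, Nv_cast (show 1 ≤ q by omega) 2]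
      show _ = ((q : ℤ) + 1) * (1 - (q : ℤ) + (q : ℤ) ^ 2 - (q : ℤ) ^ 3 + (q : ℤ) ^ 4 - (q : ℤ) ^ 5 + (q : ℤ) ^ 6)
      ring
    refine exists_torus hq DataE7m.hA DataE7m.chainOK DataE7m.cycOK DataE7m.rootOK e
      (UntwData.coprime_of_eq (a := (q : ℤ) ^ 6) (by rw [← e, DataE7m.fN_eq]; ring)) (o := 14) fun r hr ho =>
        ⟨not_dvd_W hr (i := 2) ho, fun s hs => ?_⟩
    rcases DataE7m.dvd_of_G (dvd_Ph hr (i := 2) ho) s hs with h | h | h
    · exact hone hr h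
    · exact hne hr Nat.prime_two (by norm_num) ho (by exact_mod_cast h)
    · exact hne hr (by norm_num : (7 : ℕ).Prime) (by norm_num) ho (by exact_mod_cast h)
  · have e : fN DataE7h.c (q : ℤ) = (Nv q 3 : ℕ) := by
      rw [DataE7h.fN_eq, Nv_cast (show 1 ≤ q by omega) 3]
      show _ = ((q : ℤ) + 1) * (1 - (q : ℤ) ^ 3 + (q : ℤ) ^ 6)
      ring
    refine exists_torus hq DataE7h.hA DataE7h.chainOK DataE7h.cycOK DataE7h.rootOK e
      (UntwData.coprime_of_eq (a := 1 - (q : ℤ) ^ 2 - (q : ℤ) ^ 3 + (q : ℤ) ^ 5 + (q : ℤ) ^ 6)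
        (by rw [← e, DataE7h.fN_eq]; ring)) (o := 18) fun r hr ho =>
        ⟨not_dvd_W hr (i := 3) ho, fun s hs => ?_⟩
    rcases DataE7h.dvd_of_G (dvd_Ph hr (i := 3) ho) s hs with h | h
    · exact hone hr h
    · exact hne hr Nat.prime_three (by norm_num) ho (by exact_mod_cast h)

end Cfsg.Agent.H137.TC7
end

-- part: H137/TC7/OfTori
section
/-!
# Types from cyclic tori (helper137)
-/

set_option autoImplicit false

namespace Cfsg.Agent.H137.TC7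

open Subgroup Cfsg.Agent.H129.CycT

universe u

variable {L : Type u} [Group L] [Finite L] {p M : ℕ} {m t : Fin 4 → ℕ}

/-- the centraliser of `y` has order `t` and is abelian, if the torus has this property -/
theorem cent_of_torus {T : Subgroup L} (hc : IsCyclic ↥T) {r : ℕ} (hr : r.Prime) (hrT : r ∣ Nat.card ↥T)
    (hcent : ∀ y ∈ T, orderOf y = r → Subgroup.centralizer {y} ≤ T) {y : L} (hy : orderOf y = r) :
    Nat.card ↥(centralizer ({y} : Set L)) = Nat.card ↥T ∧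
      ∀ a ∈ centralizer ({y} : Set L), ∀ b ∈ centralizer ({y} : Set L), a * b = b * a := by
  obtain ⟨g, -, hg⟩ := centralizer_conj hc hr hrT hcent hy
  refine ⟨Nat.card_congr ⟨fun z => ⟨g * z * g⁻¹, (hg z).1 z.2⟩, fun z => ⟨g⁻¹ * z * g, (hg _).2 ?_⟩, fun z => ?_,
    fun z => ?_⟩, fun a ha b hb => ?_⟩
  · have e : g * (g⁻¹ * (z : L) * g) * g⁻¹ = z := by group
    rw [e]; exact z.2
  · exact Subtype.ext (by simp [mul_assoc])
  · exact Subtype.ext (by simp [mul_assoc])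
  · have h1 := (IsCyclic.commGroup (α := T)).mul_comm ⟨_, (hg a).1 ha⟩ ⟨_, (hg b).1 hb⟩
    have h2 : g * a * g⁻¹ * (g * b * g⁻¹) = g * b * g⁻¹ * (g * a * g⁻¹) := congrArg Subtype.val h1
    have h3 : g * (a * b) * g⁻¹ = g * (b * a) * g⁻¹ := by
      calc g * (a * b) * g⁻¹ = g * a * g⁻¹ * (g * b * g⁻¹) := by group
        _ = g * b * g⁻¹ * (g * a * g⁻¹) := h2
        _ = _ := by group
    exact mul_left_cancel (mul_right_cancel h3)

/-- **Types from tori.** -/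
theorem Types.of_tori (hN : Nums p M m t) (hM : Nat.card L = M)
    (hT : ∀ i, ∃ T : Subgroup L, IsCyclic ↥T ∧ Nat.card ↥T = t i ∧
      ∀ r : ℕ, r.Prime → r ∣ m i → ∀ y ∈ T, orderOf y = r → Subgroup.centralizer {y} ≤ T)
    (hone : ∀ i j, i ≠ j → ∀ (r s : ℕ), r.Prime → s.Prime → r ∣ m i → s ∣ m j → ∀ x y z : L, orderOf y = r →
      orderOf z = s → x * y = y * x → x * z = z * x → x = 1) : Types L p M m t := by
  have hC : ∀ i (r : ℕ), r.Prime → r ∣ m i → ∀ y : L, orderOf y = r →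
      Nat.card ↥(centralizer ({y} : Set L)) = t i ∧
      ∀ a ∈ centralizer ({y} : Set L), ∀ b ∈ centralizer ({y} : Set L), a * b = b * a := by
    intro i r hr hrm y hy
    obtain ⟨T, h1, h2, h3⟩ := hT i
    obtain ⟨h4, h5⟩ := cent_of_torus h1 hr (h2 ▸ hrm.trans (hN.dvd_t i)) (h3 r hr hrm) hy
    exact ⟨h4.trans h2, h5⟩
  have hci : ∀ g : L, Nat.card ↥(centralizer ({g} : Set L)) * cs g = M := fun g => by
    rw [← hM]; exact card_mul_index _
  -- an element of order `r` commuting with `g`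
  have key : ∀ (g : L) i (r : ℕ), r.Prime → r ∣ m i → r ∣ Nat.card ↥(centralizer ({g} : Set L)) →
      (∃ y : L, orderOf y = r ∧ g * y = y * g) ∧ t i ∣ Nat.card ↥(centralizer ({g} : Set L)) := by
    intro g i r hr hrm hrC
    have := Fact.mk hr
    obtain ⟨⟨y, hy⟩, hyr⟩ := exists_prime_orderOf_dvd_card' r hrC
    rw [Subgroup.orderOf_mk] at hyr
    have hgy : y * g = g * y := mem_centralizer_singleton_iff.1 hy
    refine ⟨⟨y, hyr, hgy.symm⟩, ?_⟩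
    obtain ⟨h1, h2⟩ := hC i r hr hrm y hyr
    rw [← h1]
    refine card_dvd_of_le fun a ha => ?_
    rw [mem_centralizer_singleton_iff]
    exact h2 a ha g (mem_centralizer_singleton_iff.2 hgy.symm)
  have hcop : ∀ (g : L) i, t i ∣ Nat.card ↥(centralizer ({g} : Set L)) → (m i).Coprime (cs g) := by
    intro g i hti
    refine (hN.full i).coprime_dvd_right ?_
    have h1 := (hN.dvd_t i).trans hti
    obtain ⟨a, ha⟩ := h1
    have h2 := hci g
    rw [ha, mul_assoc] at h2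
    rw [← h2, Nat.mul_div_cancel_left _ (by have := hN.one_lt i; omega)]
    exact dvd_mul_left _ _
  have hdvd : ∀ (g : L) i, t i ∣ Nat.card ↥(centralizer ({g} : Set L)) → cs g * t i ∣ M := by
    intro g i hti
    rw [← hci g, mul_comm]
    exact mul_dvd_mul_right hti _
  have hprime : ∀ (g : L) i, (m i).Coprime (cs g) →
      ∃ r : ℕ, r.Prime ∧ r ∣ m i ∧ r ∣ Nat.card ↥(centralizer ({g} : Set L)) := by
    intro g i hc
    obtain ⟨r, hr, hrm⟩ := Nat.exists_prime_and_dvd (hN.one_lt i).ne'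
    refine ⟨r, hr, hrm, ?_⟩
    have h1 : r ∣ Nat.card ↥(centralizer ({g} : Set L)) * cs g := by
      rw [hci]; exact (hrm.trans (hN.dvd_t i)).trans (hN.t_dvd i)
    rcases hr.dvd_mul.1 h1 with h2 | h2
    · exact h2
    · exfalso
      have h3 := Nat.dvd_gcd hrm h2
      rw [Nat.coprime_iff_gcd_eq_one.1 hc] at h3
      exact hr.one_lt.ne' (Nat.dvd_one.1 h3)
  have hd : ∀ g : L, cs g ∣ M := fun g => ⟨_, by rw [mul_comm]; exact (hci g).symm⟩
  refine { hN with dvd := hd, typ := ?_, one_type := ?_, tor := ?_, ex := ?_ }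
  · intro g _ i
    by_cases hc : (m i).Coprime (Nat.card ↥(centralizer ({g} : Set L)))
    · left
      refine hc.dvd_of_dvd_mul_left ?_
      rw [hci]
      exact (hN.dvd_t i).trans (hN.t_dvd i)
    · right
      obtain ⟨r, hr, hrm, hrC⟩ := Nat.Prime.not_coprime_iff_dvd.1 hc
      exact hcop g i (key g i r hr hrm hrC).2
  · intro g hg i j hi hj
    by_contra hij
    obtain ⟨r, hr, hrm, hrC⟩ := hprime g i hi
    obtain ⟨s, hs, hsm, hsC⟩ := hprime g j hj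
    obtain ⟨⟨y, hy, hgy⟩, -⟩ := key g i r hr hrm hrC
    obtain ⟨⟨z, hz, hgz⟩, -⟩ := key g j s hs hsm hsC
    exact hg (hone i j hij r s hr hs hrm hsm g y z hy hz hgy hgz)
  · intro g _ i hi
    obtain ⟨r, hr, hrm, hrC⟩ := hprime g i hi
    exact hdvd g i (key g i r hr hrm hrC).2
  · intro i
    obtain ⟨r, hr, hrm⟩ := Nat.exists_prime_and_dvd (hN.one_lt i).ne'
    have := Fact.mk hr
    have hrL : r ∣ Nat.card L := by rw [hM]; exact (hrm.trans (hN.dvd_t i)).trans (hN.t_dvd i)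
    obtain ⟨y, hy⟩ := exists_prime_orderOf_dvd_card' r hrL
    refine ⟨y, ?_, ?_⟩
    · rintro rfl
      rw [orderOf_one] at hy
      exact hr.one_lt.ne hy
    · rw [mul_comm, ← (hC i r hr hrm y hy).1]
      exact hci y

end Cfsg.Agent.H137.TC7
end

-- part: H137/TC7/OneType
section
/-!
# E7(q): an element commuting with elements of two types is trivial (helper137)
-/

set_option autoImplicit false
set_option linter.unusedSectionVars false

namespace Cfsg.Agent.H137.TC7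

open CoxeterSystem Subgroup Cfsg Cfsg.Lie Cfsg.Lie.ChevalleyDatum
open Cfsg.Agent.ChevalleyStructure Cfsg.Agent.ChevalleyStructure.Elts Cfsg.Agent.ChevalleyStructure.CoxeterGeom
  Cfsg.Agent.ChevalleyStructure.CoxeterGeomTypes Cfsg.Agent.ChevalleyStructure.NPerm
open Cfsg.Agent.Tits.Roots Cfsg.Agent.Tits.Core Cfsg.Agent.Nodes.Reps Cfsg.Agent.Nodes.BNOf
  Cfsg.Agent.Nodes.RGDChev Cfsg.Agent.Nodes.Bruhat
open Cfsg.Agent.KFacts.RgdField Cfsg.Agent.KFacts.RgdChevCoord Cfsg.Agent.BpExc.TorCent Cfsg.Agent.BpExc.TorChev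
open Cfsg.Agent.BpExc.Tow Cfsg.Agent.BpExc.TowChev Cfsg.Agent.BpExc.FamExt Cfsg.Agent.BpExc.FamUntw
  Cfsg.Agent.BpExc.FamInst Cfsg.Agent.BpExc.LangFr Cfsg.Agent.BpExc.FamField Cfsg.Agent.BpExc.RowsUntw
open Cfsg.Agent.GpExc.Field (glMap emb coe_emb glMap_xG emb_injective coe_glMap)
open Cfsg.Agent.H378.TorDual Cfsg.Agent.H378.TorChar Cfsg.Agent.H378.TorFin Cfsg.Agent.H378.LatRoot
  Cfsg.Agent.H378.Regular Cfsg.Agent.H378.ExcAdj Cfsg.Agent.H378.ExcNear Cfsg.Agent.H378.RegFin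
  Cfsg.Agent.H378.LatCyc Cfsg.Agent.H378.LatCodim Cfsg.Agent.H378.LatPerp Cfsg.Agent.H378.RegE7

universe u

open Polynomial in
theorem aeval_conj {l : ℕ} {T T' S : Module.End ℤ (Fin l → ℤ)} (h : ∀ x, T' (S x) = S (T x)) (P : ℤ[X])
    (x : Fin l → ℤ) : aeval T' P (S x) = S (aeval T P x) := by
  have hp : ∀ (n : ℕ) (x : Fin l → ℤ), (T' ^ n) (S x) = S ((T ^ n) x) := by
    intro n
    induction n with
    | zero => intro x; rfl
    | succ n ih => intro x; rw [pow_succ, pow_succ, Module.End.mul_apply, Module.End.mul_apply, h, ih]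
  induction P using Polynomial.induction_on' with
  | add p q hp hq => rw [map_add, LinearMap.add_apply, hp, hq, map_add, LinearMap.add_apply, map_add]
  | monomial n a =>
    rw [aeval_monomial, aeval_monomial, Module.End.mul_apply, Module.End.mul_apply, Module.algebraMap_end_apply,
      Module.algebraMap_end_apply, hp, map_smul]

section Reg

variable {W : Type*} [Group W] [Finite W] (cs : CoxeterSystem CoxeterMatrix.E₇ W)

include cs in
theorem not_dvd_card {q ℓ m : ℕ} (hℓ : ℓ.Prime) (h : od q ℓ = m) (hm : m = 7 ∨ m = 9 ∨ m = 14 ∨ m = 18) :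
    ¬ ℓ ∣ Nat.card W := by
  have hm0 : 0 < m := by omega
  have hm1 := mod_of_od hℓ h hm0
  have h2 := hℓ.two_le
  have h3 := Nat.le_of_dvd (by omega) hm1
  have hℓ8 : 8 < ℓ := by
    rcases hm with rfl | rfl | rfl | rfl
    · by_contra hcon
      have : ℓ = 8 := by omega
      rw [this] at hℓ
      exact absurd hℓ (by norm_num)
    all_goals omega
  intro h1
  have := le_of_dvd_card cs e7T.isCartan hℓ h1
  omega

theorem reg_E7 {q ℓ m : ℕ} (hℓ : ℓ.Prime) (h : od q ℓ = m) (hm : m = 7 ∨ m = 9 ∨ m = 14 ∨ m = 18)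
    (k : Type u) [Field k] (w : W) (χ : Ch 7 k) (hE : IsEig cs e7T.isCartan q ℓ w χ) (a : Fin 7 → ℤ)
    (ha : IsRoot cs e7T.isCartan a) : χ (Multiplicative.ofAdd a) ≠ 1 := by
  have : Fintype W := Fintype.ofFinite W
  have hm0 : 0 < m := by omega
  have hm1 := mod_of_od hℓ h hm0
  have h2 := hℓ.two_le
  have h3 := Nat.le_of_dvd (by omega) hm1
  refine ne_one_of_codim (cs := cs) (h := e7T.isCartan) hm0 ?_ ?_ hℓ (not_dvd_card cs hℓ h hm)
    (fun h1 => by have := Nat.le_of_dvd hm0 h1; omega)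
    (cyclotomic_dvd hℓ h hm0) hE.1 hE.2.1 hE.2.2 (fun i => ?_) ha
  · rcases hm with rfl | rfl | rfl | rfl <;> decide
  · rcases hm with rfl | rfl | rfl | rfl <;> decide
  · rw [card_perp_E7]
    rcases hm with rfl | rfl | rfl | rfl <;> omega

end Reg

/-- **An element of prime order `ℓ ∣ q ∓ 1` does not commute with elements of the types 7 (14) and 9 (18).** -/
theorem no_comm {F : Type u} [Field F] [Finite F] {ε : ℤ} (hε : ε * ε = 1) {ℓ ℓ₁ ℓ₂ m₁ m₂ : ℕ} (hℓ : ℓ.Prime)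
    (hd : (ℓ : ℤ) ∣ ((Nat.card F : ℕ) : ℤ) - ε) (hℓ₁ : ℓ₁.Prime) (hℓ₂ : ℓ₂.Prime) (h₁ : od (Nat.card F) ℓ₁ = m₁)
    (h₂ : od (Nat.card F) ℓ₂ = m₂) (hm₁ : m₁ = 7 ∨ m₁ = 14) (hm₂ : m₂ = 9 ∨ m₂ = 18) {x y z : ↥(chevE7.group F)}
    (hx : orderOf x = ℓ) (hy : orderOf y = ℓ₁) (hz : orderOf z = ℓ₂) (hxy : x * y = y * x) (hxz : x * z = z * x) :
    False := by
  let cs : CoxeterSystem CoxeterMatrix.E₇ CoxeterMatrix.E₇.Group := CoxeterMatrix.E₇.toCoxeterSystem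
  have := finite_W e7T cs
  have : Fintype CoxeterMatrix.E₇.Group := Fintype.ofFinite _
  obtain ⟨k, _, _, f, r, _, _, n, hk, hka, hn0, hn⟩ := exists_closure F
  have hemb := emb_injective e7T.inList f
  have key : ∀ {ℓ' m' : ℕ} (_ : ℓ'.Prime) (_ : od (Nat.card F) ℓ' = m') (_ : m' = 7 ∨ m' = 9 ∨ m' = 14 ∨ m' = 18)
      {y' : ↥(chevE7.group F)} (_ : orderOf y' = ℓ'),
      ∃ z g : ↥(chevE7.group k), ∃ w : CoxeterMatrix.E₇.Group, Rp cs (nsysL e7T cs hk r) w g ∧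
      (∃ v : Fin 7 → ℤ, v ≠ 0 ∧ Polynomial.aeval (rep cs e7T.isCartan w) (Polynomial.cyclotomic m' ℤ) v = 0) ∧
      ∀ y : ↥(chevE7.group k), (phi chevE7 k r n y = y ∧ y * emb e7T.inList f y' = emb e7T.inList f y' * y) →
        z⁻¹ * y * z ∈ TwT chevE7 k r n g := by
    intro ℓ' m' hℓ' h' hm' y' hy'
    have hm0 : 0 < m' := by omega
    have hℓr : ℓ' ≠ r := by
      rintro rfl
      apply not_dvd_q hℓ' h' hm0
      rw [hn]
      exact dvd_pow_self _ hn0.ne'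
    have hxℓ : y' ^ ℓ' = 1 := by rw [← hy']; exact pow_orderOf_eq_one y'
    have hx1 : y' ≠ 1 := by
      rintro rfl
      rw [orderOf_one] at hy'
      exact hℓ'.one_lt.ne hy'
    obtain ⟨z, g, w, hg, -, ⟨χ, hE⟩, hC⟩ := centralizer_of_reg e7T cs hk r hka (n := n)
      (x := emb e7T.inList f y') (phi_emb' e7T f r hn y') hℓ' hℓr (by rw [← map_pow, hxℓ, map_one])
      (fun h => hx1 (hemb (h.trans (map_one _).symm))) (not_dvd_card cs hℓ' h' hm')
      (fun w χ hE a ha => reg_E7 cs hℓ' h' hm' k w χ (hn ▸ hE) a ha)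
    refine ⟨z, g, w, hg, ?_, fun y hy => (hC y).1 hy⟩
    exact ker_of_eig e7T cs hℓ' (not_dvd_card cs hℓ' h' hm') h' hm0 (hn ▸ hE)
  obtain ⟨z₁, g₁, w₁, hg₁, ⟨v₁, hv₁, hv₁'⟩, hC₁⟩ := key hℓ₁ h₁ (by (clear * - hm₁; itauto)) hy
  obtain ⟨z₂, g₂, w₂, hg₂, ⟨v₂, hv₂, hv₂'⟩, hC₂⟩ := key hℓ₂ h₂ (by (clear * - hm₂; itauto)) hz
  obtain ⟨u, hu⟩ : ∃ u, u = emb e7T.inList f x := ⟨_, rfl⟩
  have huf : phi chevE7 k r n u = u := by rw [hu]; exact phi_emb' e7T f r hn x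
  have ht₁ := hC₁ u ⟨huf, by rw [hu, ← map_mul, ← map_mul, hxy]⟩
  have ht₂ := hC₂ u ⟨huf, by rw [hu, ← map_mul, ← map_mul, hxz]⟩
  obtain ⟨t₁, et₁⟩ : ∃ t₁, t₁ = z₁⁻¹ * u * z₁ := ⟨_, rfl⟩
  obtain ⟨t₂, et₂⟩ : ∃ t₂, t₂ = z₂⁻¹ * u * z₂ := ⟨_, rfl⟩
  rw [← et₁] at ht₁
  rw [← et₂] at ht₂
  obtain ⟨m, -, w, g, hg, hgs, -⟩ := exists_form' e7T cs hk r ht₂.1 ht₁.1 (c := z₁⁻¹ * z₂) (by rw [et₁, et₂]; group)
  -- the characters
  have hK₁ := (mem_TwT_iff e7T cs r hk hg₁ ht₁.1).1 ht₁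
  have hK₂ := (mem_TwT_iff e7T cs r hk hg₂ ht₂.1).1 ht₂
  have hgt : g * t₂ * g⁻¹ = t₁ := by rw [hgs]; group
  have hgm : g * t₂ * g⁻¹ ∈ TT chevE7 k := by rw [hgt]; exact ht₁.1
  have hconj := fun x => tchar_conj e7T cs hk r hg ht₂.1 hgm x
  have e1 : (⟨g * t₂ * g⁻¹, hgm⟩ : ↥(TT chevE7 k)) = ⟨t₁, ht₁.1⟩ := Subtype.ext hgt
  rw [e1] at hconj
  obtain ⟨χ, hχ⟩ : ∃ χ, χ = tchar e7T ⟨t₁, ht₁.1⟩ := ⟨_, rfl⟩
  obtain ⟨χ₂, hχ₂⟩ : ∃ χ, χ = tchar e7T ⟨t₂, ht₂.1⟩ := ⟨_, rfl⟩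
  rw [← hχ] at hK₁ hconj
  rw [← hχ₂] at hK₂ hconj
  have c₁ := fun x => chi_w hK₁ x
  have c₂ := fun x => chi_w hK₂ x
  have huℓ : u ^ ℓ = 1 := by rw [hu, ← map_pow, ← hx, pow_orderOf_eq_one, map_one]
  have htℓ : t₁ ^ ℓ = 1 := by
    have h1 := conj_pow (a := z₁⁻¹) (b := u) (i := ℓ)
    rw [inv_inv] at h1
    rw [et₁, h1, huℓ]; group
  have hχℓ : χ ^ ℓ = 1 := by rw [hχ]; exact tchar_pow_eq_one e7T ht₁.1 htℓ
  have hχ1 : χ ≠ 1 := by
    intro h1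
    rw [hχ] at h1
    have h2 := tchar_injective e7T (h1.trans (map_one (tchar e7T)).symm)
    have h3 : t₁ = 1 := congrArg (fun z : ↥(TT chevE7 k) => z.1) h2
    have h4 : u = 1 := by
      have : u = z₁ * t₁ * z₁⁻¹ := by rw [et₁]; group
      rw [this, h3]; group
    have h5 : x = 1 := hemb ((hu.symm.trans h4).trans (map_one _).symm)
    rw [h5, orderOf_one] at hx
    exact hℓ.one_lt.ne hx
  have hpow : ∀ x, χ x ^ (((r ^ n : ℕ) : ℤ)) = χ x ^ ε := by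
    intro x
    rw [hn] at hd
    obtain ⟨c, hc⟩ := hd
    have e : ((r ^ n : ℕ) : ℤ) = ε + ℓ * c := by linarith only [hc]
    have h3 : χ x ^ ℓ = 1 := by rw [← MonoidHom.pow_apply, hχℓ, MonoidHom.one_apply]
    rw [e, zpow_add, zpow_mul, zpow_natCast, h3, one_zpow, mul_one]
  refine no_common cs hχ1 hε (w := w₁) (w' := w * w₂ * w⁻¹) (fun x => by rw [c₁, hpow]) (fun x => ?_)
    (m := m₁) (m' := m₂) (y := v₁) (y' := rep cs e7T.isCartan w v₂) hm₁ hm₂ hv₁ ?_ hv₁' ?_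
  · rw [rep_mul_apply, rep_mul_apply, hconj, c₂, ← hpow]
    congr 1
    rw [← hconj, rep_apply_inv]
  · intro h0
    apply hv₂
    have := congrArg (rep cs e7T.isCartan w⁻¹) h0
    rwa [rep_inv_apply, map_zero] at this
  · rw [aeval_conj (T := rep cs e7T.isCartan w₂) (S := rep cs e7T.isCartan w), hv₂', map_zero]
    intro x
    rw [rep_mul_apply, rep_mul_apply, rep_inv_apply]

/-! ### arithmetic of the orders of the tori -/

theorem tv_mul {q : ℕ} (hq : 2 ≤ q) (i : Fin 4) : Nat.gcd 2 (q - 1) * tv q i = Nv q i := by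
  refine Nat.mul_div_cancel' ?_
  have h1 : Nat.gcd 2 (q - 1) ∣ q - 1 := Nat.gcd_dvd_right _ _
  have h2 : Nat.gcd 2 (q - 1) ∣ q + 1 := by
    have : q + 1 = (q - 1) + 2 := by omega
    rw [this]
    exact dvd_add h1 (Nat.gcd_dvd_left _ _)
  have h3 : (q - 1) ∣ q ^ 7 - 1 := by simpa only [_root_.one_pow] using Nat.sub_dvd_pow_sub_pow q 1 7
  have h4 : (q + 1) ∣ q ^ 7 + 1 := by simpa using Odd.nat_add_dvd_pow_add_pow q 1 (n := 7) (by decide)
  fin_cases i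
  · exact h1.trans h3
  · exact h1.trans (dvd_mul_right _ _)
  · exact h2.trans h4
  · exact h2.trans (dvd_mul_right _ _)

/-- the sign -/
def sg : Fin 4 → ℤ := ![1, 1, -1, -1]

/-- the degree -/
def dg : Fin 4 → ℕ := ![7, 9, 7, 9]

theorem Nv_sg {q : ℕ} (hq : 2 ≤ q) (i : Fin 4) : (Nv q i : ℤ) = ((q : ℤ) - sg i) * Ph q i := by
  rw [Nv_cast (by omega)]
  fin_cases i
  · rfl
  · rfl
  · show ((q : ℤ) + 1) * _ = ((q : ℤ) - (-1)) * _
    rw [sub_neg_eq_add]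
  · show ((q : ℤ) + 1) * _ = ((q : ℤ) - (-1)) * _
    rw [sub_neg_eq_add]

theorem Nv_dvd {q : ℕ} (hq : 2 ≤ q) (i : Fin 4) : (Nv q i : ℤ) ∣ (q : ℤ) ^ dg i - sg i := by
  rw [Nv_sg hq]
  fin_cases i
  · exact ⟨1, by simp only [Ph, sg, dg, Fin.zero_eta, Matrix.cons_val_zero]; ring⟩
  · refine ⟨(q : ℤ) ^ 2 + q + 1, ?_⟩
    show (q : ℤ) ^ 9 - 1 = ((q : ℤ) - 1) * (1 + (q : ℤ) ^ 3 + (q : ℤ) ^ 6) * _
    ring
  · refine ⟨1, ?_⟩
    show (q : ℤ) ^ 7 - (-1) = ((q : ℤ) - (-1)) *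
      (1 - (q : ℤ) + (q : ℤ) ^ 2 - (q : ℤ) ^ 3 + (q : ℤ) ^ 4 - (q : ℤ) ^ 5 + (q : ℤ) ^ 6) * _
    ring
  · refine ⟨(q : ℤ) ^ 2 - q + 1, ?_⟩
    show (q : ℤ) ^ 9 - (-1) = ((q : ℤ) - (-1)) * (1 - (q : ℤ) ^ 3 + (q : ℤ) ^ 6) * _
    ring

theorem Ph_odd {q : ℕ} (hq : Odd q) (i : Fin 4) : Odd (Ph q i) := by
  have h : Odd (q : ℤ) := by exact_mod_cast hq
  have h' := fun n : ℕ => h.pow (n := n)
  fin_cases i
  · show Odd (1 + (q : ℤ) + (q : ℤ) ^ 2 + (q : ℤ) ^ 3 + (q : ℤ) ^ 4 + (q : ℤ) ^ 5 + (q : ℤ) ^ 6)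
    exact (((((odd_one.add_odd h).add_odd (h' 2)).add_odd (h' 3)).add_odd (h' 4)).add_odd (h' 5)).add_odd (h' 6)
  · show Odd (1 + (q : ℤ) ^ 3 + (q : ℤ) ^ 6)
    exact (odd_one.add_odd (h' 3)).add_odd (h' 6)
  · show Odd (1 - (q : ℤ) + (q : ℤ) ^ 2 - (q : ℤ) ^ 3 + (q : ℤ) ^ 4 - (q : ℤ) ^ 5 + (q : ℤ) ^ 6)
    exact (((((odd_one.sub_odd h).add_odd (h' 2)).sub_odd (h' 3)).add_odd (h' 4)).sub_odd (h' 5)).add_odd (h' 6)
  · show Odd (1 - (q : ℤ) ^ 3 + (q : ℤ) ^ 6)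
    exact (odd_one.sub_odd (h' 3)).add_odd (h' 6)

/-- the sign is determined by a common prime divisor -/
theorem sg_eq {q ℓ : ℕ} (hq : 2 ≤ q) (hℓ : ℓ.Prime) {i j : Fin 4} (hi : ℓ ∣ tv q i) (hj : ℓ ∣ tv q j) :
    sg i = sg j := by
  have hN : ∀ i, ℓ ∣ tv q i → (ℓ : ℤ) ∣ (q : ℤ) ^ dg i - sg i := by
    intro i hi
    refine (Int.natCast_dvd_natCast.2 ?_).trans (Nv_dvd hq i)
    rw [← tv_mul hq]
    exact hi.mul_left _
  have h63 : ∀ i, ℓ ∣ tv q i → (ℓ : ℤ) ∣ (q : ℤ) ^ 63 - sg i := by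
    intro i hi
    refine (hN i hi).trans ?_
    fin_cases i
    · refine (sub_dvd_pow_sub_pow ((q : ℤ) ^ 7) 1 9).trans (dvd_of_eq ?_)
      show ((q : ℤ) ^ 7) ^ 9 - 1 ^ 9 = (q : ℤ) ^ 63 - 1
      ring
    · refine (sub_dvd_pow_sub_pow ((q : ℤ) ^ 9) 1 7).trans (dvd_of_eq ?_)
      show ((q : ℤ) ^ 9) ^ 7 - 1 ^ 7 = (q : ℤ) ^ 63 - 1
      ring
    · refine (sub_dvd_pow_sub_pow ((q : ℤ) ^ 7) (-1) 9).trans (dvd_of_eq ?_)
      show ((q : ℤ) ^ 7) ^ 9 - (-1) ^ 9 = (q : ℤ) ^ 63 - (-1)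
      ring
    · refine (sub_dvd_pow_sub_pow ((q : ℤ) ^ 9) (-1) 7).trans (dvd_of_eq ?_)
      show ((q : ℤ) ^ 9) ^ 7 - (-1) ^ 7 = (q : ℤ) ^ 63 - (-1)
      ring
  have hsg : ∀ i, sg i = 1 ∨ sg i = -1 := by
    intro i
    fin_cases i
    · exact Or.inl rfl
    · exact Or.inl rfl
    · exact Or.inr rfl
    · exact Or.inr rfl
  by_contra hne
  have h2 : (ℓ : ℤ) ∣ sg i - sg j := by
    have := dvd_sub (h63 j hj) (h63 i hi)
    rwa [sub_sub_sub_cancel_left] at this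
  have hℓ2 : ℓ = 2 := by
    have h3 : (ℓ : ℤ) ∣ 2 := by
      rcases hsg i with h | h <;> rcases hsg j with h' | h' <;> rw [h, h'] at h2
      · exact absurd (h.trans h'.symm) hne
      · exact h2
      · rw [← Int.dvd_neg]; exact h2
      · exact absurd (h.trans h'.symm) hne
    have h4 : ℓ ∣ 2 := by exact_mod_cast h3
    exact (Nat.prime_dvd_prime_iff_eq hℓ Nat.prime_two).1 h4
  subst hℓ2
  have hodd : Odd q := by
    rcases Nat.even_or_odd q with he | ho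
    · exfalso
      have h3 := h63 i hi
      have h4 : (2 : ℤ) ∣ (q : ℤ) ^ 63 := dvd_pow (by exact_mod_cast he.two_dvd) (by norm_num)
      have h5 : (2 : ℤ) ∣ sg i := by
        have := dvd_sub h4 h3
        rwa [sub_sub_cancel] at this
      rcases hsg i with h | h <;> rw [h] at h5 <;> omega
    · exact ho
  have hg : Nat.gcd 2 (q - 1) = 2 := by
    rw [Nat.gcd_eq_left]
    obtain ⟨m, hm⟩ := hodd
    exact ⟨m, by omega⟩
  have h4 : ∀ i, 2 ∣ tv q i → (4 : ℤ) ∣ (q : ℤ) - sg i := by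
    intro i hi
    have h5 := tv_mul hq i
    rw [hg] at h5
    obtain ⟨c, hc⟩ := hi
    have h6 : (Nv q i : ℤ) = 4 * c := by
      rw [← h5, hc]; push_cast; ring
    rw [Nv_sg hq] at h6
    have h7 : IsCoprime (4 : ℤ) (Ph q i) := by
      have h8 : IsCoprime (2 : ℤ) (Ph q i) := by
        obtain ⟨n, hn⟩ := Ph_odd hodd i
        exact ⟨-n, 1, by rw [hn]; ring⟩
      have : (4 : ℤ) = 2 * 2 := by norm_num
      rw [this]
      exact h8.mul_left h8
    exact h7.dvd_of_dvd_mul_right ⟨c, h6⟩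
  have h5 := h4 i hi
  have h6 := h4 j hj
  rcases hsg i with h | h <;> rcases hsg j with h' | h' <;> rw [h] at h5 <;> rw [h'] at h6
  · exact hne (h.trans h'.symm)
  · omega
  · omega
  · exact hne (h.trans h'.symm)

/-- a common prime divisor of two tori divides `q ∓ 1` -/
theorem dvd_sub_sg {q ℓ : ℕ} (hq : 2 ≤ q) (hℓ : ℓ.Prime) {i j : Fin 4} (hij : i ≠ j) (hi : ℓ ∣ tv q i)
    (hj : ℓ ∣ tv q j) : (ℓ : ℤ) ∣ (q : ℤ) - sg i := by
  have hs := sg_eq hq hℓ hi hj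
  have hN : ∀ i, ℓ ∣ tv q i → (ℓ : ℤ) ∣ (q : ℤ) ^ dg i - sg i := by
    intro i hi
    refine (Int.natCast_dvd_natCast.2 ?_).trans (Nv_dvd hq i)
    rw [← tv_mul hq]
    exact hi.mul_left _
  have h1 := hN i hi
  have h2 := hN j hj
  rw [← hs] at h2
  have key : ∀ e : ℤ, e * e = 1 → (ℓ : ℤ) ∣ (q : ℤ) ^ 7 - e → (ℓ : ℤ) ∣ (q : ℤ) ^ 9 - e → (ℓ : ℤ) ∣ (q : ℤ) - e := by
    intro e he h7 h9
    -- `q ^ 2 ≡ 1`
    have h3 : (ℓ : ℤ) ∣ e * ((q : ℤ) ^ 2 - 1) := by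
      have := dvd_sub (h7.mul_left ((q : ℤ) ^ 2)) h9
      have e2 : (q : ℤ) ^ 2 * ((q : ℤ) ^ 7 - e) - ((q : ℤ) ^ 9 - e) = -(e * ((q : ℤ) ^ 2 - 1)) := by ring
      rw [e2, Int.dvd_neg] at this
      exact this
    have h4 : (ℓ : ℤ) ∣ (q : ℤ) ^ 2 - 1 := by
      have := h3.mul_left e
      rwa [← mul_assoc, he, one_mul] at this
    have e3 : (q : ℤ) - e = ((q : ℤ) ^ 7 - e) - ((q : ℤ) ^ 2 - 1) * (q * ((q : ℤ) ^ 4 + (q : ℤ) ^ 2 + 1)) := by ring
    rw [e3]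
    exact dvd_sub h7 (h4.mul_right _)
  have hse : sg i * sg i = 1 := by
    fin_cases i
    · rfl
    · rfl
    · show (-1 : ℤ) * (-1) = 1; norm_num
    · show (-1 : ℤ) * (-1) = 1; norm_num
  have hdg : (dg i = 7 ∧ dg j = 9) ∨ (dg i = 9 ∧ dg j = 7) := by
    revert hij hs
    clear * -
    revert i j
    decide
  rcases hdg with ⟨h3, h4⟩ | ⟨h3, h4⟩
  · rw [h3] at h1; rw [h4] at h2
    exact key _ hse h1 h2
  · rw [h3] at h1; rw [h4] at h2
    exact key _ hse h2 h1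

/-- **E7(q)**: an element commuting with elements of two types is trivial -/
theorem one_type_E7 {F : Type u} [Field F] [Fintype F] {q : ℕ} (hq : Fintype.card F = q) {i j : Fin 4} (hij : i ≠ j)
    {r s : ℕ} (hr : r.Prime) (hs : s.Prime) (hor : od q r = ov i) (hos : od q s = ov j)
    {x y z : ↥(chevE7.group F)} (hy : orderOf y = r) (hz : orderOf z = s) (hxy : x * y = y * x)
    (hxz : x * z = z * x) : x = 1 := by
  by_contra hx1
  have hq2 : 2 ≤ q := by rw [← hq]; exact Fintype.one_lt_card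
  have hqN : Nat.card F = q := by rw [Nat.card_eq_fintype_card, hq]
  have hx0 : orderOf x ≠ 1 := fun h => hx1 (orderOf_eq_one_iff.1 h)
  obtain ⟨ℓ, hℓ, hℓx⟩ := Nat.exists_prime_and_dvd hx0
  obtain ⟨x', hx'⟩ : ∃ x', x' = x ^ (orderOf x / ℓ) := ⟨_, rfl⟩
  have hox : orderOf x' = ℓ := by
    rw [hx']
    exact orderOf_pow_orderOf_div ((orderOf_pos x).ne' :) hℓx
  have hc : ∀ y, x * y = y * x → x' * y = y * x' := by
    intro y h
    rw [hx']
    exact (Commute.pow_left (h : Commute x y) _)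
  -- the orders
  have hdv : ∀ (i : Fin 4) (r : ℕ), r.Prime → od q r = ov i → ∀ y, orderOf y = r → x' * y = y * x' →
      ℓ ∣ tv q i := by
    intro i r hr hor y hy hc
    obtain ⟨T, h1, h2, h3⟩ := exists_T hq i
    have h4 := fun y hy hyr => h3 r hr hor y hy hyr
    have hrT : r ∣ Nat.card ↥T := by
      rw [h2]
      have h5 := r_dvd_Nv (show 1 ≤ q by omega) hr hor
      rw [← tv_mul hq2] at h5
      rcases hr.dvd_mul.1 h5 with h6 | h6
      · have h7 := Nat.le_of_dvd two_pos (h6.trans (Nat.gcd_dvd_left _ _))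
        have := r_ge hr hor
        omega
      · exact h6
    have hC := (cent_of_torus h1 hr hrT h4 hy).1
    rw [← h2, ← hC, ← hox]
    have hmem : x' ∈ Subgroup.centralizer ({y} : Set _) := Subgroup.mem_centralizer_singleton_iff.2 hc
    rw [← Subgroup.orderOf_mk x' hmem]
    exact _root_.orderOf_dvd_natCard _
  have hi := hdv i r hr hor y hy (hc y hxy)
  have hj := hdv j s hs hos z hz (hc z hxz)
  have h1 := dvd_sub_sg hq2 hℓ hij hi hj
  have h2 := sg_eq hq2 hℓ hi hj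
  have hse : sg i * sg i = 1 := by
    fin_cases i
    · rfl
    · rfl
    · show (-1 : ℤ) * (-1) = 1; norm_num
    · show (-1 : ℤ) * (-1) = 1; norm_num
  rw [← hqN] at h1 hor hos
  have hov : ((ov i = 7 ∨ ov i = 14) ∧ (ov j = 9 ∨ ov j = 18)) ∨ ((ov i = 9 ∨ ov i = 18) ∧ (ov j = 7 ∨ ov j = 14)) := by
    revert hij h2
    clear * -
    revert i j
    decide
  rcases hov with ⟨h3, h4⟩ | ⟨h3, h4⟩
  · exact no_comm hse hℓ h1 hr hs hor hos h3 h4 hox hy hz (hc y hxy) (hc z hxz)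
  · exact no_comm hse hℓ h1 hs hr hos hor h4 h3 hox hz hy (hc z hxz) (hc y hxy)

end Cfsg.Agent.H137.TC7
end

-- part: H137/TC7/NumE7
section
/-!
# The numbers of E7(q), q ≥ 4 (helper137)

* `gv`, `PN`, `mv` : `mv q i = PN q i / gv q i` the product of the full `r`-parts of `|E7(q)|`, `od q r = ov i`;
* `P_le_E7` : the `r`-parts of `|E7(q)|`, `r ∤ q`;
* `nums_E7`.
-/

set_option autoImplicit false
set_option linter.unusedSectionVars false

namespace Cfsg.Agent.H137.TC7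

open Cfsg.Agent.H902 Cfsg.Agent.H902.Art Cfsg.Agent.H378.ExcNear Cfsg.Agent.H378.ExcAdj Cfsg.Agent.H378

/-- the divisor prime to the type -/
def gv (q : ℕ) : Fin 4 → ℕ := ![Nat.gcd 7 (q - 1), Nat.gcd 3 (q - 1), Nat.gcd 7 (q + 1), Nat.gcd 3 (q + 1)]

/-- the values of the cyclotomic polynomials -/
def PN (q : ℕ) : Fin 4 → ℕ := ![1 + q + q ^ 2 + q ^ 3 + q ^ 4 + q ^ 5 + q ^ 6, 1 + q ^ 3 + q ^ 6,
  1 + q ^ 2 + q ^ 4 + q ^ 6 - (q + q ^ 3 + q ^ 5), 1 + q ^ 6 - q ^ 3]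

/-- the product of the full parts -/
def mv (q : ℕ) (i : Fin 4) : ℕ := PN q i / gv q i

theorem PN_cast {q : ℕ} (hq : 1 ≤ q) (i : Fin 4) : (PN q i : ℤ) = Ph q i := by
  have h1 : q ≤ q ^ 2 := Nat.le_self_pow (by norm_num) q
  have h3 : q ^ 3 ≤ q ^ 4 := Nat.pow_le_pow_right hq (by norm_num)
  have h5 : q ^ 5 ≤ q ^ 6 := Nat.pow_le_pow_right hq (by norm_num)
  have h36 : q ^ 3 ≤ q ^ 6 := Nat.pow_le_pow_right hq (by norm_num)
  fin_cases i
  · show ((1 + q + q ^ 2 + q ^ 3 + q ^ 4 + q ^ 5 + q ^ 6 : ℕ) : ℤ) = _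
    push_cast; rfl
  · show ((1 + q ^ 3 + q ^ 6 : ℕ) : ℤ) = _
    push_cast; rfl
  · show ((1 + q ^ 2 + q ^ 4 + q ^ 6 - (q + q ^ 3 + q ^ 5) : ℕ) : ℤ) =
      1 - (q : ℤ) + (q : ℤ) ^ 2 - (q : ℤ) ^ 3 + (q : ℤ) ^ 4 - (q : ℤ) ^ 5 + (q : ℤ) ^ 6
    rw [Nat.cast_sub (by omega)]
    push_cast; ring
  · show ((1 + q ^ 6 - q ^ 3 : ℕ) : ℤ) = 1 - (q : ℤ) ^ 3 + (q : ℤ) ^ 6
    rw [Nat.cast_sub (by omega)]
    push_cast; ring

/-- the primes -/
def n0 : Fin 4 → ℕ := ![7, 3, 7, 3]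

theorem n0_prime (i : Fin 4) : (n0 i).Prime := by
  fin_cases i
  · exact (by norm_num : (7 : ℕ).Prime)
  · exact (by norm_num : (3 : ℕ).Prime)
  · exact (by norm_num : (7 : ℕ).Prime)
  · exact (by norm_num : (3 : ℕ).Prime)

theorem gv_eq {q : ℕ} (hq : 1 ≤ q) (i : Fin 4) : (gv q i = n0 i ∧ (n0 i : ℤ) ∣ (q : ℤ) - sg i) ∨
    (gv q i = 1 ∧ ¬ (n0 i : ℤ) ∣ (q : ℤ) - sg i) := by
  have key : ∀ {n a : ℕ}, n.Prime → (Nat.gcd n a = n ∧ (n : ℤ) ∣ (a : ℤ)) ∨ (Nat.gcd n a = 1 ∧ ¬ (n : ℤ) ∣ (a : ℤ)) := by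
    intro n a hn
    by_cases h : n ∣ a
    · exact Or.inl ⟨Nat.gcd_eq_left h, Int.natCast_dvd_natCast.2 h⟩
    · exact Or.inr ⟨(Nat.Prime.coprime_iff_not_dvd hn).2 h, fun h' => h (Int.natCast_dvd_natCast.1 h')⟩
  have e1 : ((q - 1 : ℕ) : ℤ) = (q : ℤ) - 1 := by push_cast [Nat.cast_sub hq]; ring
  have e2 : ((q + 1 : ℕ) : ℤ) = (q : ℤ) - (-1) := by push_cast; ring
  fin_cases i
  · have := key (a := q - 1) (n0_prime 0); rw [e1] at this; exact this
  · have := key (a := q - 1) (n0_prime 1); rw [e1] at this; exact this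
  · have := key (a := q + 1) (n0_prime 2); rw [e2] at this; exact this
  · have := key (a := q + 1) (n0_prime 3); rw [e2] at this; exact this

/-- `Φ(q) ≡ n0 mod n0²` if `q ≡ ±1 mod n0` -/
theorem Ph_mod {q : ℕ} (i : Fin 4) (h : (n0 i : ℤ) ∣ (q : ℤ) - sg i) : ∃ c : ℤ, Ph q i = n0 i + n0 i ^ 2 * c := by
  obtain ⟨a, ha⟩ := h
  have hq : (q : ℤ) = sg i + n0 i * a := by linarith
  fin_cases i
  · change (q : ℤ) = 1 + 7 * a at hq
    show ∃ c : ℤ, 1 + (q : ℤ) + (q : ℤ) ^ 2 + (q : ℤ) ^ 3 + (q : ℤ) ^ 4 + (q : ℤ) ^ 5 + (q : ℤ) ^ 6 = 7 + 7 ^ 2 * c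
    rw [hq]
    exact ⟨3 * a + 35 * a ^ 2 + 245 * a ^ 3 + 1029 * a ^ 4 + 2401 * a ^ 5 + 2401 * a ^ 6, by ring⟩
  · change (q : ℤ) = 1 + 3 * a at hq
    show ∃ c : ℤ, 1 + (q : ℤ) ^ 3 + (q : ℤ) ^ 6 = 3 + 3 ^ 2 * c
    rw [hq]
    exact ⟨3 * a ^ 1 + 18 * a ^ 2 + 63 * a ^ 3 + 135 * a ^ 4 + 162 * a ^ 5 + 81 * a ^ 6, by ring⟩
  · change (q : ℤ) = -1 + 7 * a at hq
    show ∃ c : ℤ, 1 - (q : ℤ) + (q : ℤ) ^ 2 - (q : ℤ) ^ 3 + (q : ℤ) ^ 4 - (q : ℤ) ^ 5 + (q : ℤ) ^ 6 = 7 + 7 ^ 2 * c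
    rw [hq]
    exact ⟨-3 * a ^ 1 + 35 * a ^ 2 + -245 * a ^ 3 + 1029 * a ^ 4 + -2401 * a ^ 5 + 2401 * a ^ 6, by ring⟩
  · change (q : ℤ) = -1 + 3 * a at hq
    show ∃ c : ℤ, 1 - (q : ℤ) ^ 3 + (q : ℤ) ^ 6 = 3 + 3 ^ 2 * c
    rw [hq]
    exact ⟨-3 * a ^ 1 + 18 * a ^ 2 + -63 * a ^ 3 + 135 * a ^ 4 + -162 * a ^ 5 + 81 * a ^ 6, by ring⟩

theorem mv_mul {q : ℕ} (hq : 1 ≤ q) (i : Fin 4) : gv q i * mv q i = PN q i := by
  refine Nat.mul_div_cancel' ?_
  rcases gv_eq hq i with ⟨h1, h2⟩ | ⟨h1, -⟩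
  · obtain ⟨c, hc⟩ := Ph_mod i h2
    rw [h1]
    refine Int.natCast_dvd_natCast.1 ?_
    rw [PN_cast hq, hc]
    exact ⟨1 + n0 i * c, by ring⟩
  · rw [h1]; exact one_dvd _

/-- in the other case `r` divides `n0` -/
theorem Ph_lin {q : ℕ} {r : ℕ} (i : Fin 4) (h1 : (r : ℤ) ∣ Ph q i)
    (h2 : (r : ℤ) ∣ (q : ℤ) ^ (![1, 3, 1, 3] : Fin 4 → ℕ) i - sg i) : (r : ℤ) ∣ (n0 i : ℤ) := by
  fin_cases i
  · change (r : ℤ) ∣ 1 + (q : ℤ) + (q : ℤ) ^ 2 + (q : ℤ) ^ 3 + (q : ℤ) ^ 4 + (q : ℤ) ^ 5 + (q : ℤ) ^ 6 at h1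
    change (r : ℤ) ∣ (q : ℤ) ^ 1 - 1 at h2
    show (r : ℤ) ∣ 7
    have e : (7 : ℤ) = 1 + (q : ℤ) + (q : ℤ) ^ 2 + (q : ℤ) ^ 3 + (q : ℤ) ^ 4 + (q : ℤ) ^ 5 + (q : ℤ) ^ 6 -
      ((q : ℤ) ^ 1 - 1) * ((q : ℤ) ^ 5 + 2 * (q : ℤ) ^ 4 + 3 * (q : ℤ) ^ 3 + 4 * (q : ℤ) ^ 2 + 5 * (q : ℤ) + 6) := by ring
    rw [e]; exact dvd_sub h1 (h2.mul_right _)
  · change (r : ℤ) ∣ 1 + (q : ℤ) ^ 3 + (q : ℤ) ^ 6 at h1
    change (r : ℤ) ∣ (q : ℤ) ^ 3 - 1 at h2
    show (r : ℤ) ∣ 3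
    have e : (3 : ℤ) = 1 + (q : ℤ) ^ 3 + (q : ℤ) ^ 6 - ((q : ℤ) ^ 3 - 1) * ((q : ℤ) ^ 3 + 2) := by ring
    rw [e]; exact dvd_sub h1 (h2.mul_right _)
  · change (r : ℤ) ∣ 1 - (q : ℤ) + (q : ℤ) ^ 2 - (q : ℤ) ^ 3 + (q : ℤ) ^ 4 - (q : ℤ) ^ 5 + (q : ℤ) ^ 6 at h1
    change (r : ℤ) ∣ (q : ℤ) ^ 1 - (-1) at h2
    show (r : ℤ) ∣ 7
    have e : (7 : ℤ) = 1 - (q : ℤ) + (q : ℤ) ^ 2 - (q : ℤ) ^ 3 + (q : ℤ) ^ 4 - (q : ℤ) ^ 5 + (q : ℤ) ^ 6 -
      ((q : ℤ) ^ 1 - (-1)) * ((q : ℤ) ^ 5 - 2 * (q : ℤ) ^ 4 + 3 * (q : ℤ) ^ 3 - 4 * (q : ℤ) ^ 2 + 5 * (q : ℤ) - 6) := by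
      ring
    rw [e]; exact dvd_sub h1 (h2.mul_right _)
  · change (r : ℤ) ∣ 1 - (q : ℤ) ^ 3 + (q : ℤ) ^ 6 at h1
    change (r : ℤ) ∣ (q : ℤ) ^ 3 - (-1) at h2
    show (r : ℤ) ∣ 3
    have e : (3 : ℤ) = 1 - (q : ℤ) ^ 3 + (q : ℤ) ^ 6 - ((q : ℤ) ^ 3 - (-1)) * ((q : ℤ) ^ 3 - 2) := by ring
    rw [e]; exact dvd_sub h1 (h2.mul_right _)

/-- `q ^ a - s` for a prime divisor of `Φ(q)` -/
theorem dvd_pow_of_Ph {q r : ℕ} (i : Fin 4) (h : (r : ℤ) ∣ Ph q i) : (r : ℤ) ∣ (q : ℤ) ^ dg i - sg i := by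
  refine h.trans ?_
  fin_cases i
  · exact ⟨(q : ℤ) - 1, by
      show (q : ℤ) ^ 7 - 1 = (1 + (q : ℤ) + (q : ℤ) ^ 2 + (q : ℤ) ^ 3 + (q : ℤ) ^ 4 + (q : ℤ) ^ 5 + (q : ℤ) ^ 6) * _
      ring⟩
  · exact ⟨(q : ℤ) ^ 3 - 1, by
      show (q : ℤ) ^ 9 - 1 = (1 + (q : ℤ) ^ 3 + (q : ℤ) ^ 6) * _
      ring⟩
  · exact ⟨(q : ℤ) + 1, by
      show (q : ℤ) ^ 7 - (-1) = (1 - (q : ℤ) + (q : ℤ) ^ 2 - (q : ℤ) ^ 3 + (q : ℤ) ^ 4 - (q : ℤ) ^ 5 + (q : ℤ) ^ 6) * _
      ring⟩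
  · exact ⟨(q : ℤ) ^ 3 + 1, by
      show (q : ℤ) ^ 9 - (-1) = (1 - (q : ℤ) ^ 3 + (q : ℤ) ^ 6) * _
      ring⟩

theorem dvd_sq_sub {a s : ℤ} (hs : s * s = 1) {r : ℤ} (h : r ∣ a - s) : r ∣ a ^ 2 - 1 := by
  have e : a ^ 2 - 1 = (a - s) * (a + s) := by rw [← hs]; ring
  rw [e]; exact h.mul_right _

/-- **The prime divisors of `mv q i`.** -/
theorem od_of_mv {q r : ℕ} (hq : 2 ≤ q) (hr : r.Prime) {i : Fin 4} (h : r ∣ mv q i) : od q r = ov i := by
  have h1 : (r : ℤ) ∣ Ph q i := by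
    rw [← PN_cast (by omega), ← mv_mul (by omega)]
    exact Int.natCast_dvd_natCast.2 (h.mul_left _)
  -- `r ≠ n0`
  have hrn : r ≠ n0 i := by
    intro he
    rcases gv_eq (show 1 ≤ q by omega) i with ⟨h2, h3⟩ | ⟨h2, h3⟩
    · obtain ⟨c, hc⟩ := Ph_mod i h3
      obtain ⟨d, hd⟩ := h
      have h4 := mv_mul (show 1 ≤ q by omega) i
      rw [hd, h2, ← he] at h4
      have h5 : (PN q i : ℤ) = r * (r * d) := by rw [← h4]; push_cast; ring
      rw [PN_cast (by omega), hc, ← he] at h5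
      have h6 : (r : ℤ) * (1 + r * c - r * d) = 0 := by linear_combination h5
      have h7 : (r : ℤ) ≠ 0 := by exact_mod_cast hr.ne_zero
      rcases mul_eq_zero.1 h6 with h8 | h8
      · exact h7 h8
      · have h9 : (r : ℤ) ∣ 1 := ⟨d - c, by linear_combination h8⟩
        exact hr.one_lt.ne' (Nat.dvd_one.1 (Int.natCast_dvd_natCast.1 (by exact_mod_cast h9)))
    · apply h3
      rw [← he]
      have h4 := dvd_pow_of_Ph i h1
      have hn := n0_prime i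
      rw [← he] at hn
      -- Fermat
      have hF : (r : ℤ) ∣ (q : ℤ) ^ dg i - (q : ℤ) ∨ r = 3 := by
        have : Fact r.Prime := ⟨hr⟩
        have key : (r : ℤ) ∣ (q : ℤ) ^ r - q := by
          rw [← ZMod.intCast_zmod_eq_zero_iff_dvd]
          push_cast
          rw [ZMod.pow_card, sub_self]
        fin_cases i
        · left; change r = 7 at he; rw [he] at key ⊢; exact key
        · right; exact he
        · left; change r = 7 at he; rw [he] at key ⊢; exact key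
        · right; exact he
      rcases hF with hF | hF
      · have := dvd_sub h4 hF
        rwa [sub_sub_sub_cancel_left] at this
      · subst hF
        have hd : dg i = 9 := by
          fin_cases i
          · exact absurd he (by decide)
          · rfl
          · exact absurd he (by decide)
          · rfl
        rw [hd] at h4
        have : Fact (Nat.Prime 3) := ⟨Nat.prime_three⟩
        have key : ((3 : ℕ) : ℤ) ∣ (q : ℤ) ^ 9 - q := by
          rw [← ZMod.intCast_zmod_eq_zero_iff_dvd]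
          push_cast
          have e : ((q : ℕ) : ZMod 3) ^ 9 = (((q : ℕ) : ZMod 3) ^ 3) ^ 3 := by rw [← pow_mul]
          rw [e, ZMod.pow_card, ZMod.pow_card, sub_self]
        have := dvd_sub h4 key
        rwa [sub_sub_sub_cancel_left] at this
  have h2 := dvd_pow_of_Ph i h1
  have hnot : ¬ (r : ℤ) ∣ (q : ℤ) ^ (![1, 3, 1, 3] : Fin 4 → ℕ) i - sg i := by
    intro h3
    have h4 := Ph_lin i h1 h3
    exact hrn ((Nat.prime_dvd_prime_iff_eq hr (n0_prime i)).1 (Int.natCast_dvd_natCast.1 h4))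
  have hr2 : (i = 2 ∨ i = 3) → r ≠ 2 := by
    rintro hi rfl
    -- `Φ` is odd
    have hodd : ¬ (2 : ℤ) ∣ Ph q i := by
      rcases Nat.even_or_odd q with he | ho
      · have hk : (2 : ℤ) ∣ (q : ℤ) := by exact_mod_cast he.two_dvd
        obtain ⟨b, hb⟩ := hk
        rintro ⟨c, hc⟩
        rcases hi with rfl | rfl
        · change 1 - (q : ℤ) + (q : ℤ) ^ 2 - (q : ℤ) ^ 3 + (q : ℤ) ^ 4 - (q : ℤ) ^ 5 + (q : ℤ) ^ 6 = 2 * c at hc
          have : (2 : ℤ) * (c + b - (q : ℤ) * b + (q : ℤ) ^ 2 * b - (q : ℤ) ^ 3 * b + (q : ℤ) ^ 4 * b - (q : ℤ) ^ 5 * b) = 1 := by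
            linear_combination -hc + (-1 + (q : ℤ) - (q : ℤ) ^ 2 + (q : ℤ) ^ 3 - (q : ℤ) ^ 4 + (q : ℤ) ^ 5) * hb
          omega
        · change 1 - (q : ℤ) ^ 3 + (q : ℤ) ^ 6 = 2 * c at hc
          have : (2 : ℤ) * (c + (q : ℤ) ^ 2 * b - (q : ℤ) ^ 5 * b) = 1 := by
            linear_combination -hc + (-(q : ℤ) ^ 2 + (q : ℤ) ^ 5) * hb
          omega
      · have := Ph_odd ho i
        intro h
        exact (Int.not_even_iff_odd.2 this) (even_iff_two_dvd.2 h)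
    exact hodd h1
  -- the order
  fin_cases i
  · change (r : ℤ) ∣ (q : ℤ) ^ 7 - 1 at h2
    change ¬ (r : ℤ) ∣ (q : ℤ) ^ 1 - 1 at hnot
    have h3 := (CycTab.dvd_iff 7).1 h2
    rw [CycTab.dvd_iff 1] at hnot
    show orderOf ((q : ℕ) : ZMod r) = 7
    rcases (Nat.dvd_prime (by norm_num : (7 : ℕ).Prime)).1 h3 with h4 | h4
    · exact absurd (h4 ▸ dvd_rfl) hnot
    · exact h4
  · change (r : ℤ) ∣ (q : ℤ) ^ 9 - 1 at h2
    change ¬ (r : ℤ) ∣ (q : ℤ) ^ 3 - 1 at hnot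
    have h3 := (CycTab.dvd_iff 9).1 h2
    rw [CycTab.dvd_iff 3] at hnot
    show orderOf ((q : ℕ) : ZMod r) = 9
    revert h3 hnot
    generalize orderOf ((q : ℕ) : ZMod r) = o
    intro hnot h3
    have := Nat.le_of_dvd (by norm_num) h3
    interval_cases o <;> revert h3 hnot <;> decide
  · change (r : ℤ) ∣ (q : ℤ) ^ 7 - (-1) at h2
    change ¬ (r : ℤ) ∣ (q : ℤ) ^ 1 - (-1) at hnot
    have h3 : (r : ℤ) ∣ (q : ℤ) ^ 14 - 1 := by
      have := dvd_sq_sub (s := -1) (by norm_num) h2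
      rwa [← pow_mul] at this
    have h4 := (CycTab.dvd_iff 14).1 h3
    have h7 : ¬ (r : ℤ) ∣ (q : ℤ) ^ 7 - 1 := by
      intro h5
      have h6 := dvd_sub h2 h5
      have e : (q : ℤ) ^ 7 - (-1) - ((q : ℤ) ^ 7 - 1) = (2 : ℕ) := by push_cast; ring
      rw [e] at h6
      exact hr2 (Or.inl rfl) ((Nat.prime_dvd_prime_iff_eq hr Nat.prime_two).1 (Int.natCast_dvd_natCast.1 h6))
    have h2' : ¬ (r : ℤ) ∣ (q : ℤ) ^ 2 - 1 := by
      intro h5
      apply hnot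
      have e : (q : ℤ) ^ 1 - (-1) = ((q : ℤ) ^ 7 - (-1)) - ((q : ℤ) ^ 2 - 1) * (q * ((q : ℤ) ^ 4 + (q : ℤ) ^ 2 + 1)) := by
        ring
      rw [e]
      exact dvd_sub h2 (h5.mul_right _)
    rw [CycTab.dvd_iff 7] at h7
    rw [CycTab.dvd_iff 2] at h2'
    show orderOf ((q : ℕ) : ZMod r) = 14
    revert h4 h7 h2'
    generalize orderOf ((q : ℕ) : ZMod r) = o
    intro h4 h7 h2'
    have := Nat.le_of_dvd (by norm_num) h4
    interval_cases o <;> revert h4 h7 h2' <;> decide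
  · change (r : ℤ) ∣ (q : ℤ) ^ 9 - (-1) at h2
    change ¬ (r : ℤ) ∣ (q : ℤ) ^ 3 - (-1) at hnot
    have h3 : (r : ℤ) ∣ (q : ℤ) ^ 18 - 1 := by
      have := dvd_sq_sub (s := -1) (by norm_num) h2
      rwa [← pow_mul] at this
    have h4 := (CycTab.dvd_iff 18).1 h3
    have h7 : ¬ (r : ℤ) ∣ (q : ℤ) ^ 9 - 1 := by
      intro h5
      have h6 := dvd_sub h2 h5
      have e : (q : ℤ) ^ 9 - (-1) - ((q : ℤ) ^ 9 - 1) = (2 : ℕ) := by push_cast; ring
      rw [e] at h6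
      exact hr2 (Or.inr rfl) ((Nat.prime_dvd_prime_iff_eq hr Nat.prime_two).1 (Int.natCast_dvd_natCast.1 h6))
    have h2' : ¬ (r : ℤ) ∣ (q : ℤ) ^ 6 - 1 := by
      intro h5
      apply hnot
      have e : (q : ℤ) ^ 3 - (-1) = ((q : ℤ) ^ 9 - (-1)) - ((q : ℤ) ^ 6 - 1) * (q : ℤ) ^ 3 := by
        ring
      rw [e]
      exact dvd_sub h2 (h5.mul_right _)
    rw [CycTab.dvd_iff 9] at h7
    rw [CycTab.dvd_iff 6] at h2'
    show orderOf ((q : ℕ) : ZMod r) = 18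
    revert h4 h7 h2'
    generalize orderOf ((q : ℕ) : ZMod r) = o
    intro h4 h7 h2'
    have := Nat.le_of_dvd (by norm_num) h4
    interval_cases o <;> revert h4 h7 h2' <;> decide

theorem gv_le {q : ℕ} (hq : 1 ≤ q) (i : Fin 4) : gv q i ≤ 7 := by
  rcases gv_eq hq i with ⟨h, -⟩ | ⟨h, -⟩ <;> rw [h]
  · fin_cases i <;> decide
  · norm_num

theorem le_PN {q : ℕ} (hq : 4 ≤ q) (i : Fin 4) : 3 * q ^ 6 ≤ 4 * PN q i := by
  have h : 4 * q ^ 5 ≤ q ^ 6 := by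
    have : q ^ 6 = q * q ^ 5 := by ring
    rw [this]; exact Nat.mul_le_mul_right _ hq
  have h2 : q ^ 2 ≤ q ^ 3 := Nat.pow_le_pow_right (by omega) (by norm_num)
  have h3 : q ^ 3 ≤ q ^ 4 := Nat.pow_le_pow_right (by omega) (by norm_num)
  have h4 : q ^ 4 ≤ q ^ 5 := Nat.pow_le_pow_right (by omega) (by norm_num)
  have h1 : q ≤ q ^ 2 := Nat.le_self_pow (by norm_num) q
  fin_cases i
  · show 3 * q ^ 6 ≤ 4 * (1 + q + q ^ 2 + q ^ 3 + q ^ 4 + q ^ 5 + q ^ 6); omega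
  · show 3 * q ^ 6 ≤ 4 * (1 + q ^ 3 + q ^ 6); omega
  · show 3 * q ^ 6 ≤ 4 * (1 + q ^ 2 + q ^ 4 + q ^ 6 - (q + q ^ 3 + q ^ 5)); omega
  · show 3 * q ^ 6 ≤ 4 * (1 + q ^ 6 - q ^ 3); omega

theorem le_mv {q : ℕ} (hq : 4 ≤ q) (i : Fin 4) : 3 * q ^ 6 ≤ 28 * mv q i := by
  have h1 := le_PN hq i
  rw [← mv_mul (by omega)] at h1
  have h2 := Nat.mul_le_mul_right (mv q i) (gv_le (show 1 ≤ q by omega) i)
  omega

/-! ### the order of E7(q) -/

/-- `(2, q - 1) |E7(q)|` -/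
def EN (q : ℕ) : ℕ := q ^ 63 * ((q ^ 2 - 1) * (q ^ 6 - 1) * (q ^ 8 - 1) * (q ^ 10 - 1) * (q ^ 12 - 1) * (q ^ 14 - 1) *
  (q ^ 18 - 1))

/-- the complementary factor -/
def RS (q : ℕ) (i : Fin 4) : ℕ := q ^ 63 * ((q ^ 2 - 1) * (q ^ 6 - 1) * (q ^ 8 - 1) * (q ^ 10 - 1) * (q ^ 12 - 1)) *
  (![(q ^ 7 + 1) * (q ^ 18 - 1), (q ^ 2 + q + 1) * ((q ^ 9 + 1) * (q ^ 14 - 1)), (q ^ 7 - 1) * (q ^ 18 - 1),
    (q ^ 2 - q + 1) * ((q ^ 9 - 1) * (q ^ 14 - 1))] : Fin 4 → ℕ) i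

theorem EN_eq {q : ℕ} (hq : 2 ≤ q) (i : Fin 4) : EN q = Nv q i * RS q i := by
  have h2 : 1 ≤ q ^ 2 := Nat.one_le_pow _ _ (by omega)
  have h6 : 1 ≤ q ^ 6 := Nat.one_le_pow _ _ (by omega)
  have h7 : 1 ≤ q ^ 7 := Nat.one_le_pow _ _ (by omega)
  have h8 : 1 ≤ q ^ 8 := Nat.one_le_pow _ _ (by omega)
  have h9 : 1 ≤ q ^ 9 := Nat.one_le_pow _ _ (by omega)
  have h10 : 1 ≤ q ^ 10 := Nat.one_le_pow _ _ (by omega)
  have h12 : 1 ≤ q ^ 12 := Nat.one_le_pow _ _ (by omega)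
  have h14 : 1 ≤ q ^ 14 := Nat.one_le_pow _ _ (by omega)
  have h18 : 1 ≤ q ^ 18 := Nat.one_le_pow _ _ (by omega)
  have h36 : q ^ 3 ≤ q ^ 6 := Nat.pow_le_pow_right (by omega) (by norm_num)
  have h12' : q ≤ q ^ 2 := Nat.le_self_pow (by norm_num) q
  have h1 : 1 ≤ q := by omega
  fin_cases i
  · show q ^ 63 * ((q ^ 2 - 1) * (q ^ 6 - 1) * (q ^ 8 - 1) * (q ^ 10 - 1) * (q ^ 12 - 1) * (q ^ 14 - 1) *
      (q ^ 18 - 1)) = (q ^ 7 - 1) * (q ^ 63 * ((q ^ 2 - 1) * (q ^ 6 - 1) * (q ^ 8 - 1) * (q ^ 10 - 1) * (q ^ 12 - 1)) *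
      ((q ^ 7 + 1) * (q ^ 18 - 1)))
    have e : q ^ 14 - 1 = (q ^ 7 - 1) * (q ^ 7 + 1) := by zify [h14, h7]; ring
    rw [e]; ring
  · show q ^ 63 * ((q ^ 2 - 1) * (q ^ 6 - 1) * (q ^ 8 - 1) * (q ^ 10 - 1) * (q ^ 12 - 1) * (q ^ 14 - 1) *
      (q ^ 18 - 1)) = ((q - 1) * (q ^ 6 + q ^ 3 + 1)) *
      (q ^ 63 * ((q ^ 2 - 1) * (q ^ 6 - 1) * (q ^ 8 - 1) * (q ^ 10 - 1) * (q ^ 12 - 1)) *
      ((q ^ 2 + q + 1) * ((q ^ 9 + 1) * (q ^ 14 - 1))))
    have e : q ^ 18 - 1 = (q - 1) * (q ^ 6 + q ^ 3 + 1) * (q ^ 2 + q + 1) * (q ^ 9 + 1) := by zify [h18, h1]; ring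
    rw [e]; ring
  · show q ^ 63 * ((q ^ 2 - 1) * (q ^ 6 - 1) * (q ^ 8 - 1) * (q ^ 10 - 1) * (q ^ 12 - 1) * (q ^ 14 - 1) *
      (q ^ 18 - 1)) = (q ^ 7 + 1) * (q ^ 63 * ((q ^ 2 - 1) * (q ^ 6 - 1) * (q ^ 8 - 1) * (q ^ 10 - 1) * (q ^ 12 - 1)) *
      ((q ^ 7 - 1) * (q ^ 18 - 1)))
    have e : q ^ 14 - 1 = (q ^ 7 - 1) * (q ^ 7 + 1) := by zify [h14, h7]; ring
    rw [e]; ring
  · show q ^ 63 * ((q ^ 2 - 1) * (q ^ 6 - 1) * (q ^ 8 - 1) * (q ^ 10 - 1) * (q ^ 12 - 1) * (q ^ 14 - 1) *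
      (q ^ 18 - 1)) = ((q + 1) * (q ^ 6 - q ^ 3 + 1)) *
      (q ^ 63 * ((q ^ 2 - 1) * (q ^ 6 - 1) * (q ^ 8 - 1) * (q ^ 10 - 1) * (q ^ 12 - 1)) *
      ((q ^ 2 - q + 1) * ((q ^ 9 - 1) * (q ^ 14 - 1))))
    have e : q ^ 18 - 1 = (q + 1) * (q ^ 6 - q ^ 3 + 1) * (q ^ 2 - q + 1) * (q ^ 9 - 1) := by
      zify [h18, h9, h36, h12']; ring
    rw [e]; ring

theorem dvd_nat_iff {q r : ℕ} (hq : 1 ≤ q) (n : ℕ) : r ∣ q ^ n - 1 ↔ od q r ∣ n := by
  rw [← Int.natCast_dvd_natCast, Nat.cast_sub (Nat.one_le_pow _ _ hq)]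
  push_cast
  exact CycTab.dvd_iff n

/-- `r ∤ RS q i (q ∓ 1)` for the primes of type `i` -/
theorem not_dvd_RS {q r : ℕ} (hq : 2 ≤ q) (hr : r.Prime) {i : Fin 4} (h : od q r = ov i) : ¬ r ∣ RS q i := by
  have hr19 := r_ge hr h
  have h0 : 0 < ov i := by fin_cases i <;> decide
  have hrq : ¬ r ∣ q := H378.RegFin.not_dvd_q hr h h0
  have hq1 : 1 ≤ q := by omega
  have hn : ∀ n, ¬ ov i ∣ n → ¬ r ∣ q ^ n - 1 := fun n hn hd => hn (h ▸ (dvd_nat_iff hq1 n).1 hd)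
  have hplus : ∀ n, ov i ∣ n → ¬ r ∣ q ^ n + 1 := by
    intro n hn hd
    have h1 := (dvd_nat_iff (r := r) hq1 n).2 (h ▸ hn)
    have h2 := Nat.dvd_sub hd h1
    have h3 : 1 ≤ q ^ n := Nat.one_le_pow _ _ hq1
    have e : q ^ n + 1 - (q ^ n - 1) = 2 := by omega
    rw [e] at h2
    have := Nat.le_of_dvd (by norm_num) h2
    omega
  have hplus' : ∀ n, ¬ ov i ∣ 2 * n → ¬ r ∣ q ^ n + 1 := by
    intro n hn' hd
    apply hn (2 * n) hn'
    refine hd.trans ⟨q ^ n - 1, ?_⟩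
    have h3 : 1 ≤ q ^ n := Nat.one_le_pow _ _ hq1
    have h4 : 1 ≤ q ^ (2 * n) := Nat.one_le_pow _ _ hq1
    zify [h3, h4]; ring
  have hmul : ∀ {a b : ℕ}, ¬ r ∣ a → ¬ r ∣ b → ¬ r ∣ a * b := fun ha hb hd => (hr.dvd_mul.1 hd).elim ha hb
  have hbase : ¬ r ∣ q ^ 63 * ((q ^ 2 - 1) * (q ^ 6 - 1) * (q ^ 8 - 1) * (q ^ 10 - 1) * (q ^ 12 - 1)) := by
    refine hmul (fun hd => hrq (hr.dvd_of_dvd_pow hd)) (hmul (hmul (hmul (hmul ?_ ?_) ?_) ?_) ?_)
    all_goals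
      refine hn _ ?_
      fin_cases i <;> decide
  refine hmul hbase ?_
  fin_cases i
  · exact hmul (hplus 7 (by decide)) (hn 18 (by decide))
  · refine hmul (fun hd => hn 3 (by decide) (hd.trans ⟨q - 1, ?_⟩)) (hmul (hplus 9 (by decide)) (hn 14 (by decide)))
    have h3 : 1 ≤ q ^ 3 := Nat.one_le_pow _ _ hq1
    zify [h3, hq1]; ring
  · exact hmul (hn 7 (by decide)) (hn 18 (by decide))
  · refine hmul (fun hd => hplus' 3 (by decide) (hd.trans ⟨q + 1, ?_⟩)) (hmul (hn 9 (by decide)) (hn 14 (by decide)))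
    have h12' : q ≤ q ^ 2 := Nat.le_self_pow (by norm_num) q
    zify [h12']; ring

/-! ### the `r`-parts -/

theorem P_factor {r a : ℕ} (hr : r.Prime) (_ : a ≠ 0) : P r a = r ^ padicValNat r a := by
  rw [P, Nat.factorization_def _ hr]

/-- lifting the exponent, `r` odd -/
theorem P_pow_odd {r b j : ℕ} (hr : r.Prime) (hr2 : r ≠ 2) (hb : 2 ≤ b) (hd : r ∣ b - 1) (hj : j ≠ 0) :
    P r (b ^ j - 1) = P r (b - 1) * P r j := by
  have : Fact r.Prime := ⟨hr⟩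
  have hrb : ¬ r ∣ b := by
    intro h
    have h1 := Nat.dvd_sub h hd
    have e : b - (b - 1) = 1 := by omega
    rw [e] at h1
    exact hr.one_lt.ne' (Nat.dvd_one.1 h1)
  have h1 := padicValNat.pow_sub_pow (p := r) (hr.odd_of_ne_two hr2) (x := b) (y := 1) (by omega) hd hrb hj
  rw [one_pow] at h1
  have h2 : b ^ j - 1 ≠ 0 := by
    have := Nat.one_lt_pow hj (show 1 < b by omega)
    omega
  rw [P_factor hr h2, h1, pow_add, P_factor hr (by omega), P_factor hr hj]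

/-- lifting the exponent, `r = 2` -/
theorem P_pow_two {q j : ℕ} (hq : 2 ≤ q) (hodd : ¬ 2 ∣ q) (hj : j ≠ 0) :
    P 2 ((q ^ 2) ^ j - 1) = P 2 (q ^ 2 - 1) * P 2 j := by
  have : Fact (Nat.Prime 2) := ⟨Nat.prime_two⟩
  have h21 : 2 ∣ q - 1 := by omega
  have h1 := padicValNat.pow_two_sub_pow (x := q) (y := 1) (by omega) h21 hodd (n := 2 * j) (by omega) (even_two_mul j)
  have h2 := padicValNat.pow_two_sub_pow (x := q) (y := 1) (by omega) h21 hodd (n := 2) (by omega) even_two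
  rw [one_pow] at h1 h2
  rw [pow_mul] at h1
  have h3 : padicValNat 2 (2 * j) = 1 + padicValNat 2 j := by
    rw [padicValNat.mul (by norm_num) hj, padicValNat_self]
  have h4 : padicValNat 2 2 = 1 := padicValNat_self
  rw [h3] at h1
  rw [h4] at h2
  have hn1 : (q ^ 2) ^ j - 1 ≠ 0 := by
    have : 1 < q ^ 2 := Nat.one_lt_pow (by norm_num) (by omega)
    have := Nat.one_lt_pow hj this
    omega
  have hn2 : q ^ 2 - 1 ≠ 0 := by
    have : 1 < q ^ 2 := Nat.one_lt_pow (by norm_num) (by omega)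
    omega
  rw [P_factor Nat.prime_two hn1, P_factor Nat.prime_two hn2, P_factor Nat.prime_two hj, ← pow_add]
  congr 1
  omega

theorem P_EN {q r : ℕ} (hq : 2 ≤ q) (hr : r.Prime) (hrq : ¬ r ∣ q) : P r (EN q) =
    P r (q ^ 2 - 1) * P r (q ^ 6 - 1) * P r (q ^ 8 - 1) * P r (q ^ 10 - 1) * P r (q ^ 12 - 1) * P r (q ^ 14 - 1) *
      P r (q ^ 18 - 1) := by
  have hn : ∀ n, n ≠ 0 → q ^ n - 1 ≠ 0 := by
    intro n hn
    have := Nat.one_lt_pow hn (show 1 < q by omega)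
    omega
  have h2 := hn 2 (by norm_num)
  have h6 := hn 6 (by norm_num)
  have h8 := hn 8 (by norm_num)
  have h10 := hn 10 (by norm_num)
  have h12 := hn 12 (by norm_num)
  have h14 := hn 14 (by norm_num)
  have h18 := hn 18 (by norm_num)
  have h63 : q ^ 63 ≠ 0 := by positivity
  rw [EN, P_mul h63 (by (clear * - h2 h6 h8 h10 h12 h14 h18; positivity)), P_mul (by (clear * - h2 h6 h8 h10 h12 h14; positivity)) h18, P_mul (by (clear * - h2 h6 h8 h10 h12; positivity)) h14, P_mul (by (clear * - h2 h6 h8 h10; positivity)) h12,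
    P_mul (by positivity) h10, P_mul (by positivity) h8, P_mul h2 h6]
  rw [P_eq_one (fun hd => hrq (hr.dvd_of_dvd_pow hd)), one_mul]

/-- **The `r`-parts.** -/
theorem P_le_EN {q r M : ℕ} (hq : 3 ≤ q) (hr : r.Prime) (hrq : ¬ r ∣ q) (hM : Nat.gcd 2 (q - 1) * M = EN q) :
    P r M ≤ 512 * (q + 1) ^ 7 ∨ P r M ≤ (q ^ 3 + 1) ^ 3 ∨ P r M ≤ (q ^ 4 + 1) * (q ^ 6 + 1) := by
  have hq2 : 2 ≤ q := by omega
  have hq1 : 1 ≤ q := by omega
  have hP := P_EN hq2 hr hrq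
  have hEN0 : EN q ≠ 0 := by
    intro h0
    have hn : ∀ n, n ≠ 0 → q ^ n - 1 ≠ 0 := by
      intro n hn
      have := Nat.one_lt_pow hn (show 1 < q by omega)
      omega
    have h2 := hn 2 (by norm_num)
    have h6 := hn 6 (by norm_num)
    have h8 := hn 8 (by norm_num)
    have h10 := hn 10 (by norm_num)
    have h12 := hn 12 (by norm_num)
    have h14 := hn 14 (by norm_num)
    have h18 := hn 18 (by norm_num)
    have h63 : q ^ 63 ≠ 0 := by positivity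
    rw [EN] at h0
    have : q ^ 63 * ((q ^ 2 - 1) * (q ^ 6 - 1) * (q ^ 8 - 1) * (q ^ 10 - 1) * (q ^ 12 - 1) * (q ^ 14 - 1) *
      (q ^ 18 - 1)) ≠ 0 := by (clear * - hq h2 h6 h8 h10 h12 h14 h18; positivity)
    exact this h0
  have hg0 : Nat.gcd 2 (q - 1) ≠ 0 := (Nat.gcd_pos_of_pos_left _ two_pos).ne'
  have hM0 : M ≠ 0 := by rintro rfl; rw [mul_zero] at hM; exact hEN0 hM.symm
  have hPM : P r M ≤ P r (EN q) := P_mono hr hEN0 ⟨_, by rw [← hM, mul_comm]⟩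
  have hsq : ∀ j, (q ^ 2) ^ j = q ^ (2 * j) := fun j => (pow_mul q 2 j).symm
  by_cases h2 : r ∣ q ^ 2 - 1
  · left
    by_cases hr2 : r = 2
    · subst hr2
      have hodd : Odd q := Nat.not_even_iff_odd.1 fun h => hrq h.two_dvd
      have h1 := P_two_sq_sub_one_le hq hodd
      have key := fun j (hj : j ≠ 0) => P_pow_two hq2 hrq hj
      simp only [hsq] at key
      have k3 := key 3 (by norm_num)
      have k4 := key 4 (by norm_num)
      have k5 := key 5 (by norm_num)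
      have k6 := key 6 (by norm_num)
      have k7 := key 7 (by norm_num)
      have k9 := key 9 (by norm_num)
      norm_num only [] at k3 k4 k5 k6 k7 k9
      have e3 : P 2 3 = 1 := P_eq_one (by norm_num)
      have e5 : P 2 5 = 1 := P_eq_one (by norm_num)
      have e7 : P 2 7 = 1 := P_eq_one (by norm_num)
      have e9 : P 2 9 = 1 := P_eq_one (by norm_num)
      have e4 : P 2 4 = 4 := P_pow_self (k := 2) (a := 1) Nat.prime_two (by norm_num)
      have e6 : P 2 6 = 2 := P_pow_self (k := 1) (a := 3) Nat.prime_two (by norm_num)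
      rw [k3, k4, k5, k6, k7, k9, e3, e4, e5, e6, e7, e9] at hP
      have hg : Nat.gcd 2 (q - 1) = 2 := by
        rw [Nat.gcd_eq_left]
        obtain ⟨m, hm⟩ := hodd
        exact ⟨m, by (clear * - hm; omega)⟩
      have e2 : P 2 2 = 2 := P_pow_self (k := 1) (a := 1) Nat.prime_two (by norm_num)
      have hP2 : P 2 (EN q) = 2 * P 2 M := by rw [← hM, hg, P_mul (by norm_num) hM0, e2]
      rw [hP2] at hP
      have h3 : (P 2 (q ^ 2 - 1)) ^ 7 ≤ (2 * (q + 1)) ^ 7 := Nat.pow_le_pow_left h1 7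
      have e : (2 * (q + 1)) ^ 7 = 128 * (q + 1) ^ 7 := by ring
      rw [e] at h3
      have h4 : 2 * P 2 M = 8 * (P 2 (q ^ 2 - 1)) ^ 7 := by rw [hP]; ring
      omega
    · have h1 : P r (q ^ 2 - 1) ≤ q + 1 := by
        have := P_sq_sub_one_le hr hr2 hq2 (j := 1) le_rfl
        simpa only [_root_.ge_iff_le, _root_.mul_one, _root_.pow_one] using this
      have key := fun j (hj : j ≠ 0) => P_pow_odd (b := q ^ 2) hr hr2 (by nlinarith only [hq]) h2 hj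
      simp only [hsq] at key
      have k3 := key 3 (by norm_num)
      have k4 := key 4 (by norm_num)
      have k5 := key 5 (by norm_num)
      have k6 := key 6 (by norm_num)
      have k7 := key 7 (by norm_num)
      have k9 := key 9 (by norm_num)
      norm_num only [] at k3 k4 k5 k6 k7 k9
      rw [k3, k4, k5, k6, k7, k9] at hP
      have hprod : P r 3 * P r 4 * P r 5 * P r 6 * P r 7 * P r 9 ≤ 81 := by
        have e : P r 3 * P r 4 * P r 5 * P r 6 * P r 7 * P r 9 = P r 22680 := by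
          rw [← P_mul (by norm_num) (by norm_num), ← P_mul (by norm_num) (by norm_num),
            ← P_mul (by norm_num) (by norm_num), ← P_mul (by norm_num) (by norm_num),
            ← P_mul (by norm_num) (by norm_num)]
        rw [e]
        by_cases h3 : r = 3
        · subst h3
          exact (P_pow_self (k := 4) (a := 280) Nat.prime_three (by norm_num)).le
        by_cases h5 : r = 5
        · subst h5
          exact (P_pow_self (k := 1) (a := 4536) (by norm_num) (by norm_num)).le.trans (by norm_num)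
        by_cases h7 : r = 7
        · subst h7
          exact (P_pow_self (k := 1) (a := 3240) (by norm_num) (by norm_num)).le.trans (by norm_num)
        · rw [P_eq_one]
          · norm_num
          · intro hd
            have e : (22680 : ℕ) = 2 ^ 3 * 3 ^ 4 * (5 * 7) := by norm_num
            rw [e] at hd
            rcases hr.dvd_mul.1 hd with hd | hd
            · rcases hr.dvd_mul.1 hd with hd | hd
              · exact hr2 ((Nat.prime_dvd_prime_iff_eq hr Nat.prime_two).1 (hr.dvd_of_dvd_pow hd))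
              · exact h3 ((Nat.prime_dvd_prime_iff_eq hr Nat.prime_three).1 (hr.dvd_of_dvd_pow hd))
            · rcases hr.dvd_mul.1 hd with hd | hd
              · exact h5 ((Nat.prime_dvd_prime_iff_eq hr (by norm_num)).1 hd)
              · exact h7 ((Nat.prime_dvd_prime_iff_eq hr (by norm_num)).1 hd)
      have h4 : P r (EN q) = (P r (q ^ 2 - 1)) ^ 7 * (P r 3 * P r 4 * P r 5 * P r 6 * P r 7 * P r 9) := by
        rw [hP]; ring
      have h5 : (P r (q ^ 2 - 1)) ^ 7 * (P r 3 * P r 4 * P r 5 * P r 6 * P r 7 * P r 9) ≤ (q + 1) ^ 7 * 81 :=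
        Nat.mul_le_mul (Nat.pow_le_pow_left h1 7) hprod
      omega
  · right
    have hr2 : r ≠ 2 := by
      rintro rfl
      apply h2
      have hodd : Odd q := Nat.not_even_iff_odd.1 fun h => hrq h.two_dvd
      have h3 : Odd (q ^ 2) := hodd.pow
      obtain ⟨m, hm⟩ := h3
      exact ⟨m, by omega⟩
    have hle : ∀ j, 1 ≤ j → P r (q ^ (2 * j) - 1) ≤ q ^ j + 1 := fun j hj => P_sq_sub_one_le hr hr2 hq2 hj
    have hone : ∀ n, ¬ od q r ∣ n → P r (q ^ n - 1) = 1 := fun n hn =>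
      P_eq_one fun hd => hn ((dvd_nat_iff hq1 n).1 hd)
    have ho2 : ¬ od q r ∣ 2 := fun hd => h2 ((dvd_nat_iff hq1 2).2 hd)
    have k1 := hone 2 ho2
    have k3 := hle 3 (by norm_num)
    have k4 := hle 4 (by norm_num)
    have k5 := hle 5 (by norm_num)
    have k6 := hle 6 (by norm_num)
    have k7 := hle 7 (by norm_num)
    have k9 := hle 9 (by norm_num)
    norm_num only [] at k3 k4 k5 k6 k7 k9
    by_cases ho6 : od q r ∣ 6
    · left
      have h6 : r ∣ q ^ 6 - 1 := (dvd_nat_iff hq1 6).2 ho6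
      have hr3 : r ≠ 3 := by
        rintro rfl
        apply h2
        rw [dvd_nat_iff hq1 2]
        have : Fact (Nat.Prime 3) := ⟨Nat.prime_three⟩
        have h0 : ((q : ℕ) : ZMod 3) ≠ 0 := fun h0 => hrq ((ZMod.natCast_eq_zero_iff q 3).1 h0)
        have := ZMod.orderOf_dvd_card_sub_one h0
        exact this
      have key := fun j (hj : j ≠ 0) => P_pow_odd (b := q ^ 6) hr hr2
        ((show 2 ≤ q by omega).trans (Nat.le_self_pow (by norm_num) q)) h6 hj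
      have m2 := key 2 (by norm_num)
      have m3 := key 3 (by norm_num)
      rw [← pow_mul] at m2 m3
      norm_num only [] at m2 m3
      rw [P_eq_one (fun hd => hr2 ((Nat.prime_dvd_prime_iff_eq hr Nat.prime_two).1 hd)), mul_one] at m2
      rw [P_eq_one (fun hd => hr3 ((Nat.prime_dvd_prime_iff_eq hr Nat.prime_three).1 hd)), mul_one] at m3
      have l8 : P r (q ^ 8 - 1) = 1 := hone 8 fun hd => ho2 (by simpa only [_root_.Nat.reduceGcd] using Nat.dvd_gcd ho6 hd)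
      have l10 : P r (q ^ 10 - 1) = 1 := hone 10 fun hd => ho2 (by simpa only [_root_.Nat.reduceGcd] using Nat.dvd_gcd ho6 hd)
      have l14 : P r (q ^ 14 - 1) = 1 := hone 14 fun hd => ho2 (by simpa using Nat.dvd_gcd ho6 hd)
      rw [k1, l8, l10, l14, m2, m3] at hP
      have h4 : P r (EN q) = (P r (q ^ 6 - 1)) ^ 3 := by rw [hP]; ring
      have h5 : (P r (q ^ 6 - 1)) ^ 3 ≤ (q ^ 3 + 1) ^ 3 := Nat.pow_le_pow_left k3 3
      omega
    · have l6 := hone 6 ho6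
      by_cases ho14 : od q r ∣ 14
      · left
        have l8 : P r (q ^ 8 - 1) = 1 := hone 8 fun hd => ho2 (by simpa only [_root_.Nat.reduceGcd] using Nat.dvd_gcd ho14 hd)
        have l10 : P r (q ^ 10 - 1) = 1 := hone 10 fun hd => ho2 (by simpa only [_root_.Nat.reduceGcd] using Nat.dvd_gcd ho14 hd)
        have l12 : P r (q ^ 12 - 1) = 1 := hone 12 fun hd => ho2 (by simpa using Nat.dvd_gcd ho14 hd)
        have l18 : P r (q ^ 18 - 1) = 1 := hone 18 fun hd => ho2 (by simpa using Nat.dvd_gcd ho14 hd)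
        rw [k1, l6, l8, l10, l12, l18, one_mul, one_mul, one_mul, one_mul, one_mul, mul_one] at hP
        have h79 : q ^ 7 + 1 ≤ (q ^ 3 + 1) ^ 3 := by
          have : q ^ 7 ≤ q ^ 9 := Nat.pow_le_pow_right hq1 (by norm_num)
          have e : (q ^ 3 + 1) ^ 3 = q ^ 9 + (3 * q ^ 6 + 3 * q ^ 3) + 1 := by ring
          omega
        omega
      by_cases ho18 : od q r ∣ 18
      · left
        have l8 : P r (q ^ 8 - 1) = 1 := hone 8 fun hd => ho2 (by simpa only [_root_.Nat.reduceGcd] using Nat.dvd_gcd ho18 hd)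
        have l10 : P r (q ^ 10 - 1) = 1 := hone 10 fun hd => ho2 (by simpa only [_root_.Nat.reduceGcd] using Nat.dvd_gcd ho18 hd)
        have l12 : P r (q ^ 12 - 1) = 1 := hone 12 fun hd => ho6 (by simpa using Nat.dvd_gcd ho18 hd)
        have l14 : P r (q ^ 14 - 1) = 1 := hone 14 ho14
        rw [k1, l6, l8, l10, l12, l14, one_mul, one_mul, one_mul, one_mul, one_mul, one_mul] at hP
        have h79 : q ^ 9 + 1 ≤ (q ^ 3 + 1) ^ 3 := by
          have e : (q ^ 3 + 1) ^ 3 = q ^ 9 + (3 * q ^ 6 + 3 * q ^ 3) + 1 := by ring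
          omega
        omega
      right
      have l14 : P r (q ^ 14 - 1) = 1 := hone 14 ho14
      have l18 : P r (q ^ 18 - 1) = 1 := hone 18 ho18
      by_cases ho10 : od q r ∣ 10
      · have l8 : P r (q ^ 8 - 1) = 1 := hone 8 fun hd => ho2 (by simpa only [_root_.Nat.reduceGcd] using Nat.dvd_gcd ho10 hd)
        have l12 : P r (q ^ 12 - 1) = 1 := hone 12 fun hd => ho2 (by simpa only [_root_.Nat.reduceGcd] using Nat.dvd_gcd ho10 hd)
        rw [k1, l6, l8, l12, l14, l18, one_mul, one_mul, one_mul, mul_one, mul_one, mul_one] at hP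
        have h79 : q ^ 5 + 1 ≤ (q ^ 4 + 1) * (q ^ 6 + 1) := by
          have : q ^ 5 ≤ q ^ 10 := Nat.pow_le_pow_right hq1 (by norm_num)
          have e : (q ^ 4 + 1) * (q ^ 6 + 1) = q ^ 10 + (q ^ 4 + q ^ 6) + 1 := by ring
          omega
        omega
      · have l10 : P r (q ^ 10 - 1) = 1 := hone 10 ho10
        rw [k1, l6, l10, l14, l18, one_mul, one_mul, mul_one, mul_one, mul_one] at hP
        have := Nat.mul_le_mul k4 k6
        omega

/-! ### the numbers -/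

theorem ov_inj {i j : Fin 4} (h : ov i = ov j) : i = j := by
  revert i j; decide

theorem EN_ne {q : ℕ} (hq : 2 ≤ q) : EN q ≠ 0 := by
  have hn : ∀ n, n ≠ 0 → q ^ n - 1 ≠ 0 := by
    intro n hn
    have := Nat.one_lt_pow hn (show 1 < q by omega)
    omega
  have h2 := hn 2 (by norm_num)
  have h6 := hn 6 (by norm_num)
  have h8 := hn 8 (by norm_num)
  have h10 := hn 10 (by norm_num)
  have h12 := hn 12 (by norm_num)
  have h14 := hn 14 (by norm_num)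
  have h18 := hn 18 (by norm_num)
  have h63 : q ^ 63 ≠ 0 := by positivity
  rw [EN]
  positivity

theorem EN_le {q : ℕ} : EN q ≤ q ^ 133 := by
  have hn : ∀ n, q ^ n - 1 ≤ q ^ n := fun n => Nat.sub_le _ _
  rw [EN]
  calc _ ≤ q ^ 63 * (q ^ 2 * q ^ 6 * q ^ 8 * q ^ 10 * q ^ 12 * q ^ 14 * q ^ 18) := by
        gcongr <;> exact hn _
    _ = q ^ 133 := by ring

/-- `Φ(q)` divides the order of the torus, up to `gv` -/
theorem Nv_eq {q : ℕ} (hq : 2 ≤ q) (i : Fin 4) :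
    Nv q i = (![q - 1, q - 1, q + 1, q + 1] : Fin 4 → ℕ) i * PN q i := by
  have h1 : 1 ≤ q := by omega
  have e : (Nv q i : ℤ) = (((![q - 1, q - 1, q + 1, q + 1] : Fin 4 → ℕ) i * PN q i : ℕ) : ℤ) := by
    rw [Nat.cast_mul, PN_cast h1, Nv_cast h1]
    congr 1
    fin_cases i
    · show (q : ℤ) - 1 = ((q - 1 : ℕ) : ℤ)
      rw [Nat.cast_sub h1]; rfl
    · show (q : ℤ) - 1 = ((q - 1 : ℕ) : ℤ)
      rw [Nat.cast_sub h1]; rfl
    · show (q : ℤ) + 1 = ((q + 1 : ℕ) : ℤ)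
      push_cast; rfl
    · show (q : ℤ) + 1 = ((q + 1 : ℕ) : ℤ)
      push_cast; rfl
  exact_mod_cast e

theorem big_aux {q P a b c : ℕ} (hq : 4 ≤ q)
    (hP : P ≤ 512 * (q + 1) ^ 7 ∨ P ≤ (q ^ 3 + 1) ^ 3 ∨ P ≤ (q ^ 4 + 1) * (q ^ 6 + 1)) (ha : 3 * q ^ 6 ≤ 28 * a)
    (hb : 3 * q ^ 6 ≤ 28 * b) (hc : 3 * q ^ 6 ≤ 28 * c) : 2 * P < a * b * c := by
  have h1 : 27 * q ^ 18 ≤ 21952 * (a * b * c) := by
    calc 27 * q ^ 18 = (3 * q ^ 6) * (3 * q ^ 6) * (3 * q ^ 6) := by ring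
      _ ≤ (28 * a) * (28 * b) * (28 * c) := Nat.mul_le_mul (Nat.mul_le_mul ha hb) hc
      _ = _ := by ring
  have key : 21952 * (2 * P) < 27 * q ^ 18 := by
    have hq0 : 0 < q := by omega
    rcases hP with hP | hP | hP
    · have h2 : 4 ^ 7 * (q + 1) ^ 7 ≤ 5 ^ 7 * q ^ 7 := by
        rw [← mul_pow, ← mul_pow]
        exact Nat.pow_le_pow_left (by omega) 7
      have h3 : 4 ^ 11 ≤ q ^ 11 := Nat.pow_le_pow_left hq 11
      have h4 : 4 ^ 11 * q ^ 7 ≤ q ^ 18 := by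
        calc 4 ^ 11 * q ^ 7 ≤ q ^ 11 * q ^ 7 := Nat.mul_le_mul_right _ h3
          _ = q ^ 18 := by ring
      have h5 : 0 < q ^ 7 := by positivity
      norm_num only [] at h2 h4
      omega
    · have h2 : 64 * (q ^ 3 + 1) ≤ 65 * q ^ 3 := by
        have := Nat.pow_le_pow_left hq 3
        norm_num at this
        omega
      have h3 : 64 ^ 3 * (q ^ 3 + 1) ^ 3 ≤ 65 ^ 3 * q ^ 9 := by
        have := Nat.pow_le_pow_left h2 3
        rw [mul_pow, mul_pow, ← pow_mul] at this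
        exact this
      have h4 : 4 ^ 9 * q ^ 9 ≤ q ^ 18 := by
        calc 4 ^ 9 * q ^ 9 ≤ q ^ 9 * q ^ 9 := Nat.mul_le_mul_right _ (Nat.pow_le_pow_left hq 9)
          _ = q ^ 18 := by ring
      have h5 : 0 < q ^ 9 := by positivity
      norm_num only [] at h3 h4
      omega
    · have h2 : q ^ 4 + 1 ≤ 2 * q ^ 4 := by
        have : 0 < q ^ 4 := by positivity
        omega
      have h3 : q ^ 6 + 1 ≤ 2 * q ^ 6 := by
        have : 0 < q ^ 6 := by positivity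
        omega
      have h4 : P ≤ 4 * q ^ 10 := by
        refine hP.trans ((Nat.mul_le_mul h2 h3).trans (le_of_eq ?_))
        ring
      have h6 : 4 ^ 8 * q ^ 10 ≤ q ^ 18 := by
        calc 4 ^ 8 * q ^ 10 ≤ q ^ 8 * q ^ 10 := Nat.mul_le_mul_right _ (Nat.pow_le_pow_left hq 8)
          _ = q ^ 18 := by ring
      have h5 : 0 < q ^ 10 := by positivity
      norm_num at h6
      omega
  have h2 : 21952 * (2 * P) < 21952 * (a * b * c) := lt_of_lt_of_le key h1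
  exact Nat.lt_of_mul_lt_mul_left h2

/-- **The numbers of `E7(q)`.** -/
theorem nums_E7 {p f M : ℕ} (hp : p.Prime) (hf : 1 ≤ f) (hq : 4 ≤ p ^ f)
    (hM : Nat.gcd 2 (p ^ f - 1) * M = EN (p ^ f)) : Nums p M (mv (p ^ f)) (tv (p ^ f)) := by
  obtain ⟨q, hqe⟩ : ∃ q, q = p ^ f := ⟨_, rfl⟩
  have hprq : ∀ r : ℕ, r.Prime → r ≠ p → ¬ r ∣ q := by
    intro r hr hrp hd
    rw [hqe] at hd
    exact hrp ((Nat.prime_dvd_prime_iff_eq hr hp).1 (hr.dvd_of_dvd_pow hd))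
  have hpq : p ∣ q := by rw [hqe]; exact dvd_pow_self _ (by omega)
  rw [← hqe] at hq hM ⊢
  have hq2 : 2 ≤ q := by omega
  have hq1 : 1 ≤ q := by omega
  have hg0 : Nat.gcd 2 (q - 1) ≠ 0 := (Nat.gcd_pos_of_pos_left _ two_pos).ne'
  have hM0 : M ≠ 0 := by rintro rfl; rw [mul_zero] at hM; exact EN_ne hq2 hM.symm
  have hcopod : ∀ {i : Fin 4} {n : ℕ}, (∀ r : ℕ, r.Prime → od q r = ov i → ¬ r ∣ n) → (mv q i).Coprime n := by
    intro i n h
    by_contra hc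
    obtain ⟨r, hr, h1, h2⟩ := Nat.Prime.not_coprime_iff_dvd.1 hc
    exact h r hr (od_of_mv hq2 hr h1) h2
  have h0v : ∀ i, 0 < ov i := by decide
  have hodd : ∀ i, (mv q i).Coprime (Nat.gcd 2 (q - 1)) := by
    intro i
    refine hcopod fun r hr ho hd => ?_
    have := r_ge hr ho
    have := Nat.le_of_dvd two_pos (hd.trans (Nat.gcd_dvd_left _ _))
    omega
  have hmPN : ∀ i, mv q i ∣ PN q i := fun i => ⟨gv q i, by rw [mul_comm]; exact (mv_mul hq1 i).symm⟩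
  have hmt : ∀ i, mv q i ∣ tv q i := by
    intro i
    refine (hodd i).dvd_of_dvd_mul_left ?_
    rw [tv_mul hq2, Nv_eq hq2]
    exact (hmPN i).mul_left _
  have htM : ∀ i, M = tv q i * RS q i := by
    intro i
    have h1 := EN_eq hq2 i
    rw [← hM, ← tv_mul hq2 i, mul_assoc] at h1
    exact Nat.eq_of_mul_eq_mul_left (Nat.pos_of_ne_zero hg0) h1
  have hmv1 : ∀ i, 400 < mv q i := by
    intro i
    have h1 := le_mv hq i
    have h2 := Nat.pow_le_pow_left hq 6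
    norm_num at h2
    omega
  refine ⟨hp, Nat.pos_of_ne_zero hM0, fun i => by have := hmv1 i; omega, ?_, ?_, hmt, fun i => ⟨_, htM i⟩, ?_, ?_, ?_, ?_⟩
  · intro i j hij
    refine hcopod fun r hr ho hd => hij (ov_inj ?_)
    rw [← ho, ← od_of_mv hq2 hr hd]
  · intro i
    refine hcopod fun r hr ho hd => ?_
    have : r = p := (Nat.prime_dvd_prime_iff_eq hr hp).1 hd
    subst this
    exact H378.RegFin.not_dvd_q hr ho (h0v i) hpq
  · intro i
    refine hcopod fun r hr ho hd => ?_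
    -- `M / m = (t / m) * RS`
    have h1 : M / mv q i = tv q i / mv q i * RS q i := by
      rw [htM i, Nat.mul_comm, Nat.mul_div_assoc _ (hmt i), Nat.mul_comm]
    rw [h1] at hd
    rcases hr.dvd_mul.1 hd with h2 | h2
    · -- `t / m` divides `(q ∓ 1) gv`
      have h3 : Nat.gcd 2 (q - 1) * (tv q i / mv q i) = (![q - 1, q - 1, q + 1, q + 1] : Fin 4 → ℕ) i * gv q i := by
        have h4 : mv q i * (Nat.gcd 2 (q - 1) * (tv q i / mv q i)) =
            mv q i * ((![q - 1, q - 1, q + 1, q + 1] : Fin 4 → ℕ) i * gv q i) := by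
          calc _ = Nat.gcd 2 (q - 1) * (mv q i * (tv q i / mv q i)) := by ring
            _ = Nv q i := by rw [Nat.mul_div_cancel' (hmt i), tv_mul hq2]
            _ = (![q - 1, q - 1, q + 1, q + 1] : Fin 4 → ℕ) i * (gv q i * mv q i) := by rw [mv_mul hq1, Nv_eq hq2]
            _ = _ := by ring
        exact Nat.eq_of_mul_eq_mul_left (by have := hmv1 i; omega) h4
      have h5 : r ∣ (![q - 1, q - 1, q + 1, q + 1] : Fin 4 → ℕ) i * gv q i := h3 ▸ h2.mul_left _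
      have hr19 := r_ge hr ho
      rcases hr.dvd_mul.1 h5 with h6 | h6
      · have h7 : r ∣ q ^ 2 - 1 := by
          have e : q ^ 2 - 1 = (q - 1) * (q + 1) := by
            have h3 : 1 ≤ q ^ 2 := Nat.one_le_pow _ _ hq1
            zify [h3, hq1]; ring
          rw [e]
          fin_cases i
          · exact Dvd.dvd.mul_right h6 _
          · exact Dvd.dvd.mul_right h6 _
          · exact Dvd.dvd.mul_left h6 _
          · exact Dvd.dvd.mul_left h6 _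
        have h8 := (dvd_nat_iff hq1 2).1 h7
        rw [ho] at h8
        revert h8
        clear * -
        revert i
        decide
      · have h7 := gv_le hq1 i
        have h8 : 0 < gv q i := by
          rcases gv_eq hq1 i with ⟨h, -⟩ | ⟨h, -⟩ <;> rw [h]
          · exact (n0_prime i).pos
          · exact one_pos
        have := Nat.le_of_dvd h8 h6
        omega
    · exact not_dvd_RS hq2 hr ho h2
  · by_contra hc
    obtain ⟨r, hr, h1, h2⟩ := Nat.Prime.not_coprime_iff_dvd.1 hc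
    exact absurd (sg_eq hq2 hr h1 h2) (by decide)
  · intro r hr hrp i
    have hP := P_le_EN (show 3 ≤ q by omega) hr (hprq r hr hrp) hM
    have l0 := le_mv hq 0
    have l1 := le_mv hq 1
    have l2 := le_mv hq 2
    have l3 := le_mv hq 3
    have hmi : 0 < mv q i := by have := hmv1 i; omega
    have hPe : ordProj[r] M = P r M := rfl
    rw [hPe]
    fin_cases i
    · calc 2 * P r M * mv q 0 < mv q 1 * mv q 2 * mv q 3 * mv q 0 := by
            exact Nat.mul_lt_mul_of_pos_right (big_aux hq hP l1 l2 l3) hmi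
        _ = _ := by ring
    · calc 2 * P r M * mv q 1 < mv q 0 * mv q 2 * mv q 3 * mv q 1 := by
            exact Nat.mul_lt_mul_of_pos_right (big_aux hq hP l0 l2 l3) hmi
        _ = _ := by ring
    · calc 2 * P r M * mv q 2 < mv q 0 * mv q 1 * mv q 3 * mv q 2 := by
            exact Nat.mul_lt_mul_of_pos_right (big_aux hq hP l0 l1 l3) hmi
        _ = _ := by ring
    · exact Nat.mul_lt_mul_of_pos_right (big_aux hq hP l0 l1 l2) hmi
  · intro i j _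
    have h1 : Nat.log 2 M ≤ 133 * q := by
      have h2 : M ≤ q ^ 133 := by
        refine le_trans ?_ EN_le
        rw [← hM]
        exact Nat.le_mul_of_pos_left _ (Nat.pos_of_ne_zero hg0)
      have h3 : q ≤ 2 ^ q := Nat.lt_two_pow_self.le
      have h4 : M ≤ 2 ^ (133 * q) := by
        refine h2.trans ((Nat.pow_le_pow_left h3 133).trans (le_of_eq ?_))
        rw [← pow_mul, mul_comm]
      calc Nat.log 2 M ≤ Nat.log 2 (2 ^ (133 * q)) := Nat.log_mono_right h4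
        _ = 133 * q := Nat.log_pow (by norm_num) _
    have h2 : 9 * q ^ 12 ≤ 784 * (mv q i * mv q j) := by
      calc 9 * q ^ 12 = (3 * q ^ 6) * (3 * q ^ 6) := by ring
        _ ≤ (28 * mv q i) * (28 * mv q j) := Nat.mul_le_mul (le_mv hq i) (le_mv hq j)
        _ = _ := by ring
    have h3 : 4 ^ 11 * q ≤ q ^ 12 := by
      calc 4 ^ 11 * q ≤ q ^ 11 * q := Nat.mul_le_mul_right _ (Nat.pow_le_pow_left hq 11)
        _ = q ^ 12 := by ring
    norm_num at h3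
    omega

end Cfsg.Agent.H137.TC7
end

private theorem dce_113107c392ec : _root_.True := by
  try have : _root_.True := by simp only [_root_.Cfsg.Agent.H137.TC7.ov.eq_1]
  try have : _root_.True := by simp only [_root_.Cfsg.Agent.H137.TC7.EN.eq_1]
  try have : _root_.True := by simp only [_root_.Cfsg.Agent.H137.TC7.Ph.eq_1]
  try have : _root_.True := by simp only [_root_.Cfsg.Agent.H137.TC7.dg.eq_1]
  try have : _root_.True := by simp only [_root_.Cfsg.Agent.H137.TC7.cs.eq_1]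
  try have : _root_.True := by simp only [_root_.Cfsg.Agent.H137.TC7.sg.eq_1]
  exact _root_.True.intro
end

-- part: H380/Cod/ENum
section
set_option linter.all false
open scoped Cfsg.Agent.FastGrp

/-!
# The numbers of the odd cyclic torus of `E₇(q)`, `q` odd (helper380, S3539)
-/

set_option autoImplicit false

namespace Cfsg.Agent.H380.Cod.ENum

open Cfsg Cfsg.Lie Cfsg.Agent.H137.TC7 Cfsg.Agent.H378.ExcAdj

universe u

/-- `1 + x + ... + x ^ 6 = 0` -/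
theorem ring7 {R : Type*} [CommRing R] {x : R} (h : 1 + x + x ^ 2 + x ^ 3 + x ^ 4 + x ^ 5 + x ^ 6 = 0) :
    x ^ 63 * (x ^ 2 - 1) * (x ^ 6 - 1) * (x ^ 8 - 1) * (x ^ 10 - 1) * (x ^ 12 - 1) * (x ^ 7 + 1) * (x ^ 18 - 1) = 14 := by
  have h7 : x ^ 7 = 1 := by linear_combination (x - 1) * h
  have e63 : x ^ 63 = 1 := by rw [show 63 = 7 * 9 from rfl, pow_mul, h7, one_pow]
  have e8 : x ^ 8 = x := by rw [show 8 = 7 + 1 from rfl, pow_add, h7, one_mul, pow_one]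
  have e10 : x ^ 10 = x ^ 3 := by rw [show 10 = 7 + 3 from rfl, pow_add, h7, one_mul]
  have e12 : x ^ 12 = x ^ 5 := by rw [show 12 = 7 + 5 from rfl, pow_add, h7, one_mul]
  have e18 : x ^ 18 = x ^ 4 := by rw [show 18 = 7 + 7 + 4 from rfl, pow_add, pow_add, h7, one_mul, one_mul]
  rw [e63, e8, e10, e12, e18, h7]
  linear_combination ((-12)*x^0 + (10)*x^1 + (2)*x^3 + (2)*x^5 + (-2)*x^6 + (-8)*x^7 + (6)*x^8 + (-2)*x^9 + (2)*x^10 + (2)*x^12 + (-4)*x^14 + (2)*x^15) * h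

/-- `1 - x + ... + x ^ 6 = 0` -/
theorem ring14 {R : Type*} [CommRing R] {x : R} (h : 1 - x + x ^ 2 - x ^ 3 + x ^ 4 - x ^ 5 + x ^ 6 = 0) :
    x ^ 63 * (x ^ 2 - 1) * (x ^ 6 - 1) * (x ^ 8 - 1) * (x ^ 10 - 1) * (x ^ 12 - 1) * (x ^ 7 - 1) * (x ^ 18 - 1) = 14 := by
  have h7 : x ^ 7 = -1 := by linear_combination (x + 1) * h
  have e63 : x ^ 63 = -1 := by
    rw [show 63 = 7 * 9 from rfl, pow_mul, h7]
    ring
  have e8 : x ^ 8 = -x := by rw [show 8 = 7 + 1 from rfl, pow_add, h7]; ring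
  have e10 : x ^ 10 = -x ^ 3 := by rw [show 10 = 7 + 3 from rfl, pow_add, h7]; ring
  have e12 : x ^ 12 = -x ^ 5 := by rw [show 12 = 7 + 5 from rfl, pow_add, h7]; ring
  have e18 : x ^ 18 = x ^ 4 := by rw [show 18 = 7 + 7 + 4 from rfl, pow_add, pow_add, h7]; ring
  rw [e63, e8, e10, e12, e18, h7]
  linear_combination ((-12)*x^0 + (-10)*x^1 + (-2)*x^3 + (-2)*x^5 + (-2)*x^6 + (8)*x^7 + (6)*x^8 + (2)*x^9 + (2)*x^10 + (2)*x^12 + (-4)*x^14 + (-2)*x^15) * h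

theorem gcd_two {q : ℕ} (hq : Odd q) : Nat.gcd 2 (q - 1) = 2 := by
  rw [Nat.gcd_eq_left]
  obtain ⟨m, hm⟩ := hq
  exact ⟨m, by omega⟩

/-- `q ≡ 3` mod 4 -/
theorem case3 {F : Type u} [Field F] [Fintype F] {q : ℕ} (hF : Fintype.card F = q) (h4 : q % 4 = 3) :
    Odd (tv q 0) ∧ 841 ≤ mv q 0 ∧ (∃ b, tv q 0 = mv q 0 * b ∧ (mv q 0).Coprime b) ∧
      ∃ X : ℕ, Nat.card ↥(chevE7.group F) = tv q 0 * X ∧ (mv q 0 : ℤ) ∣ (X : ℤ) - 14 := by
  have hq3 : 3 ≤ q := by omega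
  have hodd : Odd q := Nat.odd_iff.2 (by omega)
  have hg := gcd_two hodd
  have hq7 : 1 ≤ q ^ 7 := Nat.one_le_pow _ _ (by omega)
  have hN : Nv q 0 = q ^ 7 - 1 := rfl
  have h2N : q ^ 7 % 4 = 3 := by
    rw [Nat.pow_mod, h4]
  have htv : 2 * tv q 0 = q ^ 7 - 1 := by
    rw [tv, hg, hN]
    omega
  have hP : PN q 0 = 1 + q + q ^ 2 + q ^ 3 + q ^ 4 + q ^ 5 + q ^ 6 := rfl
  have hmul := mv_mul (show 1 ≤ q by omega) 0
  have hgv : gv q 0 = Nat.gcd 7 (q - 1) := rfl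
  refine ⟨?_, ?_, ?_, ?_⟩
  · rw [Nat.odd_iff]
    omega
  · rcases (show q = 3 ∨ 7 ≤ q by omega) with h | h
    · subst h
      rw [mv, hP, hgv]
      norm_num
    · have h1 : gv q 0 ≤ 7 := by rw [hgv]; exact Nat.gcd_le_left _ (by norm_num)
      have h2 : 7 ^ 6 ≤ q ^ 6 := Nat.pow_le_pow_left h 6
      have h3 : 7 ^ 6 ≤ PN q 0 := by rw [hP]; omega
      rw [← hmul] at h3
      by_contra hcon
      rw [not_le] at hcon
      have h4' : gv q 0 * mv q 0 ≤ 7 * 840 := Nat.mul_le_mul h1 (by omega)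
      omega
  · -- the other factor
    obtain ⟨m, hm⟩ : ∃ m, q - 1 = 2 * m := by
      obtain ⟨m, hm⟩ := hodd
      exact ⟨m, by omega⟩
    refine ⟨m * gv q 0, ?_, ?_⟩
    · have h1 : 2 * tv q 0 = 2 * (mv q 0 * (m * gv q 0)) := by
        have h2 : q ^ 7 - 1 = (q - 1) * PN q 0 := by
          rw [hP]
          zify [hq7, show 1 ≤ q by omega]
          ring
        rw [htv, h2, hm, ← hmul]
        ring
      omega
    · refine Nat.Coprime.mul_right ?_ ?_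
      · refine Nat.Coprime.coprime_dvd_right (⟨2, by rw [hm]; ring⟩ : m ∣ q - 1) ?_
        rw [Nat.coprime_iff_gcd_eq_one]
        by_contra hne
        obtain ⟨r, hr, hrd⟩ := Nat.exists_prime_and_dvd hne
        have h1 := od_of_mv (by omega) hr (hrd.trans (Nat.gcd_dvd_left _ _))
        have h2 := od_dvd (q := q) (r := r) (n := 1) (by omega) (by rw [pow_one]; exact hrd.trans (Nat.gcd_dvd_right _ _))
        rw [h1] at h2
        exact absurd h2 (by decide)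
      · rw [hgv]
        refine Nat.Coprime.coprime_dvd_right (Nat.gcd_dvd_left 7 (q - 1)) ?_
        rw [Nat.coprime_comm, Nat.Prime.coprime_iff_not_dvd (by norm_num)]
        intro h7
        have h1 := r_ge (q := q) (r := 7) (i := 0) (by norm_num) (od_of_mv (by omega) (by norm_num) h7)
        omega
  · refine ⟨q ^ 63 * (q ^ 2 - 1) * (q ^ 6 - 1) * (q ^ 8 - 1) * (q ^ 10 - 1) * (q ^ 12 - 1) * (q ^ 7 + 1) * (q ^ 18 - 1), ?_, ?_⟩
    · have h1 := Cfsg.Agent.S1064.result (F := F) hF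
      rw [hg] at h1
      have h2 : q ^ 14 - 1 = (q ^ 7 - 1) * (q ^ 7 + 1) := by
        have : 1 ≤ q ^ 14 := Nat.one_le_pow _ _ (by omega)
        zify [hq7, this]
        ring
      rw [h2, ← htv] at h1
      have h3 : 2 * Nat.card ↥(chevE7.group F) = 2 * (tv q 0 * (q ^ 63 * (q ^ 2 - 1) * (q ^ 6 - 1) * (q ^ 8 - 1) *
          (q ^ 10 - 1) * (q ^ 12 - 1) * (q ^ 7 + 1) * (q ^ 18 - 1))) := by
        rw [h1]
        ring
      exact Nat.eq_of_mul_eq_mul_left (by norm_num) h3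
    · rw [← ZMod.intCast_zmod_eq_zero_iff_dvd]
      have hle : ∀ k, 1 ≤ q ^ k := fun k => Nat.one_le_pow _ _ (by omega)
      push_cast [Nat.cast_sub (hle 2), Nat.cast_sub (hle 6), Nat.cast_sub (hle 8), Nat.cast_sub (hle 10),
        Nat.cast_sub (hle 12), Nat.cast_sub (hle 18)]
      rw [ring7, sub_self]
      have h1 : (mv q 0 : ℤ) ∣ 1 + (q : ℤ) + (q : ℤ) ^ 2 + (q : ℤ) ^ 3 + (q : ℤ) ^ 4 + (q : ℤ) ^ 5 + (q : ℤ) ^ 6 := by
        refine (Int.natCast_dvd_natCast.2 (Dvd.intro_left _ hmul)).trans ?_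
        rw [hP]
        push_cast
        exact dvd_rfl
      rw [← ZMod.intCast_zmod_eq_zero_iff_dvd] at h1
      push_cast at h1
      exact h1

/-- `q ≡ 1` mod 4 -/
theorem case1 {F : Type u} [Field F] [Fintype F] {q : ℕ} (hF : Fintype.card F = q) (h4 : q % 4 = 1) (hq1 : 1 < q) :
    Odd (tv q 2) ∧ 841 ≤ mv q 2 ∧ (∃ b, tv q 2 = mv q 2 * b ∧ (mv q 2).Coprime b) ∧
      ∃ X : ℕ, Nat.card ↥(chevE7.group F) = tv q 2 * X ∧ (mv q 2 : ℤ) ∣ (X : ℤ) - 14 := by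
  have hq5 : 5 ≤ q := by omega
  have hodd : Odd q := Nat.odd_iff.2 (by omega)
  have hg := gcd_two hodd
  have hq7 : 1 ≤ q ^ 7 := Nat.one_le_pow _ _ (by omega)
  have hN : Nv q 2 = q ^ 7 + 1 := rfl
  have h2N : q ^ 7 % 4 = 1 := by
    rw [Nat.pow_mod, h4]
  have htv : 2 * tv q 2 = q ^ 7 + 1 := by
    rw [tv, hg, hN]
    omega
  have hP : (PN q 2 : ℤ) = 1 - (q : ℤ) + (q : ℤ) ^ 2 - (q : ℤ) ^ 3 + (q : ℤ) ^ 4 - (q : ℤ) ^ 5 + (q : ℤ) ^ 6 :=
    PN_cast (by omega) 2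
  have hmul := mv_mul (show 1 ≤ q by omega) 2
  have hgv : gv q 2 = Nat.gcd 7 (q + 1) := rfl
  have hNP : q ^ 7 + 1 = (q + 1) * PN q 2 := by
    zify
    rw [hP]
    ring
  refine ⟨?_, ?_, ?_, ?_⟩
  · rw [Nat.odd_iff]
    omega
  · have h1 : gv q 2 ≤ 7 := by rw [hgv]; exact Nat.gcd_le_left _ (by norm_num)
    by_contra hcon
    rw [not_le] at hcon
    have h4' : PN q 2 ≤ 7 * 840 := by rw [← hmul]; exact Nat.mul_le_mul h1 (by omega)
    have h5 : q ^ 7 + 1 ≤ (q + 1) * (7 * 840) := by rw [hNP]; exact Nat.mul_le_mul_left _ h4'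
    have h6 : q * 5 ^ 6 ≤ q * q ^ 6 := Nat.mul_le_mul_left _ (Nat.pow_le_pow_left hq5 6)
    have h7 : q * q ^ 6 = q ^ 7 := by ring
    rw [h7] at h6
    omega
  · obtain ⟨m, hm⟩ : ∃ m, q + 1 = 2 * m := by
      obtain ⟨m, hm⟩ := hodd
      exact ⟨m + 1, by omega⟩
    refine ⟨m * gv q 2, ?_, ?_⟩
    · have h1 : 2 * tv q 2 = 2 * (mv q 2 * (m * gv q 2)) := by
        rw [htv, hNP, hm, ← hmul]
        ring
      omega
    · refine Nat.Coprime.mul_right ?_ ?_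
      · refine Nat.Coprime.coprime_dvd_right (⟨2, by rw [hm]; ring⟩ : m ∣ q + 1) ?_
        rw [Nat.coprime_iff_gcd_eq_one]
        by_contra hne
        obtain ⟨r, hr, hrd⟩ := Nat.exists_prime_and_dvd hne
        have h1 := od_of_mv (by omega) hr (hrd.trans (Nat.gcd_dvd_left _ _))
        have h3 : r ∣ q ^ 2 - 1 := by
          have h4 : q ^ 2 - 1 = (q + 1) * (q - 1) := by
            zify [hq1.le, Nat.one_le_pow 2 q (by omega)]
            ring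
          rw [h4]
          exact (hrd.trans (Nat.gcd_dvd_right _ _)).mul_right _
        have h2 := od_dvd (q := q) (r := r) (n := 2) (by omega) h3
        rw [h1] at h2
        exact absurd h2 (by decide)
      · rw [hgv]
        refine Nat.Coprime.coprime_dvd_right (Nat.gcd_dvd_left 7 (q + 1)) ?_
        rw [Nat.coprime_comm, Nat.Prime.coprime_iff_not_dvd (by norm_num)]
        intro h7
        have h1 := r_ge (q := q) (r := 7) (i := 2) (by norm_num) (od_of_mv (by omega) (by norm_num) h7)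
        omega
  · refine ⟨q ^ 63 * (q ^ 2 - 1) * (q ^ 6 - 1) * (q ^ 8 - 1) * (q ^ 10 - 1) * (q ^ 12 - 1) * (q ^ 7 - 1) * (q ^ 18 - 1), ?_, ?_⟩
    · have h1 := Cfsg.Agent.S1064.result (F := F) hF
      rw [hg] at h1
      have h2 : q ^ 14 - 1 = (q ^ 7 + 1) * (q ^ 7 - 1) := by
        have : 1 ≤ q ^ 14 := Nat.one_le_pow _ _ (by omega)
        zify [hq7, this]
        ring
      rw [h2, ← htv] at h1
      have h3 : 2 * Nat.card ↥(chevE7.group F) = 2 * (tv q 2 * (q ^ 63 * (q ^ 2 - 1) * (q ^ 6 - 1) * (q ^ 8 - 1) *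
          (q ^ 10 - 1) * (q ^ 12 - 1) * (q ^ 7 - 1) * (q ^ 18 - 1))) := by
        rw [h1]
        ring
      exact Nat.eq_of_mul_eq_mul_left (by norm_num) h3
    · rw [← ZMod.intCast_zmod_eq_zero_iff_dvd]
      have hle : ∀ k, 1 ≤ q ^ k := fun k => Nat.one_le_pow _ _ (by omega)
      push_cast [Nat.cast_sub (hle 2), Nat.cast_sub (hle 6), Nat.cast_sub (hle 8), Nat.cast_sub (hle 10),
        Nat.cast_sub (hle 12), Nat.cast_sub (hle 18), Nat.cast_sub (hle 7)]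
      rw [ring14, sub_self]
      have h1 : (mv q 2 : ℤ) ∣ 1 - (q : ℤ) + (q : ℤ) ^ 2 - (q : ℤ) ^ 3 + (q : ℤ) ^ 4 - (q : ℤ) ^ 5 + (q : ℤ) ^ 6 := by
        refine (Int.natCast_dvd_natCast.2 (Dvd.intro_left _ hmul)).trans ?_
        rw [hP]
      rw [← ZMod.intCast_zmod_eq_zero_iff_dvd] at h1
      push_cast at h1
      exact h1

end Cfsg.Agent.H380.Cod.ENum

private theorem dce_26a53315052d : _root_.True := by
  try have : _root_.True := by simp only [_root_.Cfsg.Agent.H137.TC7.mv.eq_1]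
  try have : _root_.True := by simp only [_root_.Cfsg.Agent.H137.TC7.tv.eq_1]
  exact _root_.True.intro
end
end
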